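import Mathlib
import Cfsg.Prelude
import Cfsg.Agent.Lib.Helper41.BRSLPSL

set_option autoImplicit false

/-! Brauer--Reynolds ladder, rung A0999: the text of S0999 from the text of S4701. -/

namespace Cfsg.Agent.Lib.Helper25.BR

/-- a non-cyclic finite simple group is perfect -/
theorem perfect_of_simple {G : Type*} [Group G] [Finite G] [IsSimpleGroup G] (hG : ¬ IsCyclic G) :
    commutator G = ⊤ := by
  rcases IsSimpleGroup.eq_bot_or_eq_top_of_normal (commutator G) inferInstance with h | h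
  · exfalso
    apply hG
    have hc : ∀ a b : G, a * b = b * a := by
      intro a b
      have : a * b * a⁻¹ * b⁻¹ ∈ commutator G :=
        Subgroup.commutator_mem_commutator (Subgroup.mem_top a) (Subgroup.mem_top b)
      rw [h, Subgroup.mem_bot] at this
      have h2 := congrArg (fun x => x * b * a) this
      simpa [mul_assoc] using h2
    let _ : CommGroup G := { (inferInstance : Group G) with mul_comm := hc }
    exact IsSimpleGroup.isCyclic
  · exact h

/-- a non-cyclic finite simple group has no normal subgroup of order two -/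
theorem card_normal_ne_two {G : Type*} [Group G] [Finite G] [IsSimpleGroup G] (hG : ¬ IsCyclic G)
    (N : Subgroup G) (hN : N.Normal) : Nat.card N ≠ 2 := by
  intro h
  rcases IsSimpleGroup.eq_bot_or_eq_top_of_normal N hN with h1 | h1
  · rw [h1, Subgroup.card_bot] at h
    omega
  · rw [h1, Subgroup.card_top] at h
    haveI : Fact (Nat.Prime 2) := ⟨Nat.prime_two⟩
    exact hG (isCyclic_of_prime_card h)

/-- the Sylow subgroups of a non-cyclic finite simple group are not normal -/
theorem sylow_not_normal {G : Type*} [Group G] [Finite G] [IsSimpleGroup G] (hG : ¬ IsCyclic G)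
    (p : ℕ) [Fact p.Prime] (hdvd : p ∣ Nat.card G) (P : Sylow p G) :
    ¬ (P : Subgroup G).Normal := by
  intro hN
  rcases IsSimpleGroup.eq_bot_or_eq_top_of_normal (P : Subgroup G) hN with h1 | h1
  · exact P.ne_bot_of_dvd_card hdvd h1
  · have hp : IsPGroup p G := by
      have h2 := P.2
      rw [h1] at h2
      exact IsPGroup.of_equiv h2 Subgroup.topEquiv
    haveI : Group.IsNilpotent G := hp.isNilpotent
    have h3 := IsSolvable.commutator_lt_top_of_nontrivial G
    rw [perfect_of_simple hG] at h3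
    exact lt_irrefl _ h3

/-- RUNG A0999 -/
theorem s0999_of {G : Type*} [Group G] [Finite G] [IsSimpleGroup G] (hG : ¬ IsCyclic G) (p : ℕ) (hp : p.Prime) (hdvd : p ∣ Nat.card G) (hbig : Nat.card G < p ^ 3)
    (h4701 : ∀ P : Sylow p G, ¬ (P : Subgroup G).Normal → (∃ (F : Type) (_ : Field F) (_ : Fintype F), Fintype.card F = p ∧ 3 < p ∧ Nonempty (G ≃* Matrix.ProjectiveSpecialLinearGroup (Fin 2) F)) ∨ (∃ (m : ℕ) (F : Type) (_ : Field F) (_ : Fintype F), Fintype.card F = 2 ^ m ∧ p = 2 ^ m + 1 ∧ 3 < p ∧ Nonempty (G ≃* Matrix.SpecialLinearGroup (Fin 2) F))) : (∃ (F : Type) (_ : Field F) (_ : Fintype F), Fintype.card F = p ∧ 3 < p ∧ Nonempty (G ≃* Matrix.ProjectiveSpecialLinearGroup (Fin 2) F)) ∨ (∃ (m : ℕ) (F : Type) (_ : Field F) (_ : Fintype F), Fintype.card F = 2 ^ m ∧ p = 2 ^ m + 1 ∧ 3 < p ∧ Nonempty (G ≃* Matrix.ProjectiveSpecialLinearGroup (Fin 2) F)) := by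
  haveI : Fact p.Prime := ⟨hp⟩
  obtain ⟨P⟩ : Nonempty (Sylow p G) := inferInstance
  rcases h4701 P (sylow_not_normal hG p hdvd P) with h | ⟨m, F, iF, iFt, hF, hpm, h3, ⟨e⟩⟩
  · exact Or.inl h
  · right
    obtain ⟨e'⟩ := Cfsg.Agent.Lib.Helper41.BR.psl_equiv_sl F m hF
    exact ⟨m, F, iF, iFt, hF, hpm, h3, ⟨e.trans e'.symm⟩⟩

end Cfsg.Agent.Lib.Helper25.BR
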