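import Cfsg.Agent.Lib.Helper25.DefOneK

/-!
# Blocks of defect one: the conditional form of the main theorem
-/

set_option autoImplicit false
set_option linter.unusedSectionVars false
set_option linter.style.haveILetI false
open Cfsg
open scoped ComplexConjugate

namespace Cfsg.Agent.Lib.Helper25

open Cfsg.Agent.Lib.Helper98.BL Cfsg.Agent.Lib.Helper20 Cfsg.Agent.Lib.Helper81
  Cfsg.Agent.Lib.Helper46

theorem card_eq_relIndex_mul {G : Type*} [Group G] (H K : Subgroup G) (h : H ≤ K) :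
    Nat.card K = H.relIndex K * Nat.card H := by
  rw [Subgroup.relIndex, ← Subgroup.card_mul_index (H.subgroupOf K),
    Nat.card_congr (Subgroup.subgroupOfEquivOfLe h).toEquiv, mul_comm]

/-- the stabilizer in the form of the statements -/
theorem card_stab_eq {G : Type*} [Group G] [Finite G] {p : ℕ} [Fact p.Prime] (D : Data G) (E : DExtra D p)
    (θ : IrrCharacter D.C) (T : Subgroup G)
    (hT : ∀ g : G, g ∈ T ↔ (g ∈ Subgroup.normalizer (D.Z : Set G) ∧
      ∀ c c' : D.C, (c' : G) = g * c * g⁻¹ → (θ : D.C → ℂ) c' = (θ : D.C → ℂ) c)) :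
    Nat.card {x : D.N // (θ : D.C → ℂ) ∘ D.cj x = θ} = D.C.relIndex T * Nat.card D.C := by
  haveI : Fintype G := Fintype.ofFinite _
  haveI : Fintype D.C := Fintype.ofFinite _
  haveI : Fintype D.N := Fintype.ofFinite _
  have hCT : D.C ≤ T := by
    intro c₀ hc₀
    rw [hT]
    refine ⟨E.C_le_normalizer_Z hc₀, ?_⟩
    intro c c' hc
    have h1 : c' = (⟨c₀, hc₀⟩ : D.C) * c * (⟨c₀, hc₀⟩ : D.C)⁻¹ := Subtype.ext hc
    rw [h1]
    exact irr_classFunction θ c ⟨c₀, hc₀⟩
  rw [← card_eq_relIndex_mul D.C T hCT]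
  apply Nat.card_congr
  refine ⟨fun x => ⟨x.1.1, ?_⟩, fun t => ⟨⟨t.1, ?_⟩, ?_⟩, fun x => rfl, fun t => rfl⟩
  · rw [hT]
    refine ⟨by rw [← E.hNN]; exact x.1.2, ?_⟩
    intro c c' hc
    have h1 := congrFun x.2 c'
    simp only [Function.comp_apply] at h1
    have h2 : D.cj x.1 c' = c := by
      apply Subtype.ext
      show (x.1 : G)⁻¹ * (c' : G) * (x.1 : G) = c
      rw [hc]; group
    rw [← h1, h2]
  · show t.1 ∈ Subgroup.normalizer (D.C : Set G)
    rw [E.hNN]; exact ((hT t.1).1 t.2).1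
  · funext c
    simp only [Function.comp_apply]
    refine (((hT t.1).1 t.2).2 _ c ?_).symm
    show (c : G) = t.1 * ((t.1 : G)⁻¹ * (c : G) * (t.1 : G)) * (t.1 : G)⁻¹
    group

/-- existence of the context -/
theorem exists_ctx {G : Type*} [Group G] [Finite G] (p : ℕ) [Fact p.Prime] (M : Ideal AlgInt)
    (hM : IsPModular p M) (P : Sylow p G) (hP : Nat.card P = p) (B : Set (IrrCharacter G))
    (hB : IsPBlock M B) (hBP : IsDefectGroup p M B P)
    (b : Set (IrrCharacter (Subgroup.centralizer ((P : Subgroup G) : Set G))))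
    (hind : IsInducedBlock M (Subgroup.centralizer ((P : Subgroup G) : Set G)) b B)
    (θ : IrrCharacter (Subgroup.centralizer ((P : Subgroup G) : Set G))) (hθ : θ ∈ b)
    (hθP : ∀ x : Subgroup.centralizer ((P : Subgroup G) : Set G), (x : G) ∈ (P : Subgroup G) →
      (θ : Subgroup.centralizer ((P : Subgroup G) : Set G) → ℂ) x
        = (θ : Subgroup.centralizer ((P : Subgroup G) : Set G) → ℂ) 1) :
    ∃ (hZC : (P : Subgroup G) ≤ Subgroup.centralizer ((P : Subgroup G) : Set G))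
      (hcent : ∀ z ∈ (P : Subgroup G), ∀ c ∈ Subgroup.centralizer ((P : Subgroup G) : Set G),
        z * c = c * z)
      (r : Subgroup.centralizer ((P : Subgroup G) : Set G) →* (P : Subgroup G))
      (hr : ∀ z : (P : Subgroup G), r ⟨z, hZC z.2⟩ = z)
      (hTI : ∀ c : Subgroup.centralizer ((P : Subgroup G) : Set G), r c ≠ 1 → ∀ g : G,
        g * c * g⁻¹ ∈ Subgroup.centralizer ((P : Subgroup G) : Set G) →
        g ∈ Subgroup.normalizer ((Subgroup.centralizer ((P : Subgroup G) : Set G) : Subgroup G)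
          : Set G))
      (hSR : ∀ x ∈ Subgroup.normalizer
        ((Subgroup.centralizer ((P : Subgroup G) : Set G) : Subgroup G) : Set G),
        x ∉ Subgroup.centralizer ((P : Subgroup G) : Set G) → ∀ w ∈ (P : Subgroup G),
        ∃ y ∈ (P : Subgroup G), x⁻¹ * y * x ∈ (P : Subgroup G) ∧ w = y⁻¹ * (x⁻¹ * y * x)),
      BCtx (⟨_, _, hZC, hcent, r, hr, hTI, hSR⟩ : Data G) p M B θ := by
  have hP' : Nat.card (P : Subgroup G) = p := hP
  have hp1 : 1 < p := (Fact.out : p.Prime).one_lt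
  have hne : Nontrivial (P : Subgroup G) := by
    rw [← Finite.one_lt_card_iff_nontrivial, hP']; exact hp1
  obtain ⟨⟨C, Z, hZC, hcent, r, hr, hTI, hSR⟩, hC, hZ⟩ := exists_data P
    (fun x hx hx1 => centralizer_singleton_of_card_prime' (P : Subgroup G) hP' hx hx1) hne
  dsimp only at hC hZ
  subst hC hZ
  refine ⟨hZC, hcent, r, hr, hTI, hSR, ?_⟩
  refine ⟨dextra_of_data P hP' _ rfl rfl, hM, hB, hBP, ?_, ?_⟩
  · intro z
    exact hθP _ z.2
  · have hb := isPBlock_eq_blockOf hM hind.1 hθ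
    rw [hb] at hind
    exact hind

/-- **Blocks of defect one** (the text of S4442), given the inequality `e ≤ l(B)`. -/
theorem defect_one_general {G : Type*} [Group G] [Finite G] (p : ℕ) [Fact p.Prime]
    (M : Ideal AlgInt) (hM : IsPModular p M) (P : Sylow p G) (hP : Nat.card P = p)
    (B : Set (IrrCharacter G)) (hB : IsPBlock M B) (hBP : IsDefectGroup p M B P)
    (b : Set (IrrCharacter (Subgroup.centralizer ((P : Subgroup G) : Set G))))
    (hind : IsInducedBlock M (Subgroup.centralizer ((P : Subgroup G) : Set G)) b B)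
    (θ : IrrCharacter (Subgroup.centralizer ((P : Subgroup G) : Set G))) (hθ : θ ∈ b)
    (hθP : ∀ x : Subgroup.centralizer ((P : Subgroup G) : Set G), (x : G) ∈ (P : Subgroup G) →
      (θ : Subgroup.centralizer ((P : Subgroup G) : Set G) → ℂ) x
        = (θ : Subgroup.centralizer ((P : Subgroup G) : Set G) → ℂ) 1)
    (T : Subgroup G)
    (hT : ∀ g : G, g ∈ T ↔ (g ∈ Subgroup.normalizer ((P : Subgroup G) : Set G) ∧
      ∀ c c' : Subgroup.centralizer ((P : Subgroup G) : Set G), (c' : G) = g * c * g⁻¹ →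
        (θ : Subgroup.centralizer ((P : Subgroup G) : Set G) → ℂ) c'
          = (θ : Subgroup.centralizer ((P : Subgroup G) : Set G) → ℂ) c))
    (e f : ℕ) (he : (Subgroup.centralizer ((P : Subgroup G) : Set G)).relIndex T = e)
    (hf : (Subgroup.centralizer ((P : Subgroup G) : Set G)).relIndex
      (Subgroup.normalizer ((P : Subgroup G) : Set G)) = f)
    (hcrux : e ≤ blockRank p B) :
    e ∣ p - 1 ∧ Nat.card B = e + (p - 1) / e ∧ ∃ X Y : Set (IrrCharacter G), B = X ∪ Y ∧
      Disjoint X Y ∧ Nat.card X = e ∧ Nat.card Y = (p - 1) / e ∧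
      (∀ χ ∈ X, (charDegree (χ : G → ℂ) : ℤ) ≡ ((f / e * charDegree
          (θ : Subgroup.centralizer ((P : Subgroup G) : Set G) → ℂ) : ℕ) : ℤ) [ZMOD p] ∨
        (charDegree (χ : G → ℂ) : ℤ) ≡ -((f / e * charDegree
          (θ : Subgroup.centralizer ((P : Subgroup G) : Set G) → ℂ) : ℕ) : ℤ) [ZMOD p]) ∧
      (∃ ε : ℤ, (ε = 1 ∨ ε = -1) ∧ ∀ ψ ∈ Y, (charDegree (ψ : G → ℂ) : ℤ) ≡ ε * ((f * charDegree
          (θ : Subgroup.centralizer ((P : Subgroup G) : Set G) → ℂ) : ℕ) : ℤ) [ZMOD p]) ∧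
      ∀ ψ ∈ Y, ∀ ψ' ∈ Y, ∀ g : G, ¬ p ∣ orderOf g → (ψ : G → ℂ) g = (ψ' : G → ℂ) g := by
  classical
  obtain ⟨hZC, hcent, r, hr, hTI, hSR, ctx⟩ := exists_ctx p M hM P hP B hB hBP b hind θ hθ hθP
  obtain ⟨D, hD⟩ : ∃ D : Data G, D = ⟨_, _, hZC, hcent, r, hr, hTI, hSR⟩ := ⟨_, rfl⟩
  haveI : Fintype G := Fintype.ofFinite _
  haveI : Fintype (Subgroup.centralizer ((P : Subgroup G) : Set G)) := Fintype.ofFinite _
  haveI : Fintype (Data.N (⟨_, _, hZC, hcent, r, hr, hTI, hSR⟩ : Data G)) := Fintype.ofFinite _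
  haveI : Finite (Data.X (⟨_, _, hZC, hcent, r, hr, hTI, hSR⟩ : Data G)) :=
    finite_hom (Z_comm _)
  haveI : Fintype (Data.X (⟨_, _, hZC, hcent, r, hr, hTI, hSR⟩ : Data G)) := Fintype.ofFinite _
  haveI : Finite (IrrCharacter (Subgroup.centralizer ((P : Subgroup G) : Set G))) :=
    finite_irrCharacter
  haveI : Fintype (IrrCharacter (Subgroup.centralizer ((P : Subgroup G) : Set G))) :=
    Fintype.ofFinite _
  haveI : Finite (IrrCharacter G) := finite_irrCharacter
  haveI : Fintype (IrrCharacter G) := Fintype.ofFinite _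
  have he' := card_stab_eq _ ctx.E θ T hT
  rw [he] at he'
  have hf' : Nat.card (Data.N (⟨_, _, hZC, hcent, r, hr, hTI, hSR⟩ : Data G))
      = f * Nat.card (Subgroup.centralizer ((P : Subgroup G) : Set G)) := by
    rw [← hf, ← card_eq_relIndex_mul _ _ (Subgroup.centralizer_le_normalizer _)]
    show Nat.card (Subgroup.normalizer
      ((Subgroup.centralizer ((P : Subgroup G) : Set G) : Subgroup G) : Set G)) = _
    rw [show Subgroup.normalizer
      ((Subgroup.centralizer ((P : Subgroup G) : Set G) : Subgroup G) : Set G)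
        = Subgroup.normalizer ((P : Subgroup G) : Set G) from ctx.E.hNN]
  exact ctx.main e f he' hf' hcrux

end Cfsg.Agent.Lib.Helper25
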