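import Mathlib
import Cfsg.Prelude
import Cfsg.Agent.Lib.Helper67.BRAR
import Cfsg.Agent.Lib.Helper41.BRBURN
import Cfsg.Agent.Lib.Helper7.SL2Center
import Cfsg.Agent.Lib.Helper25.DefOneL

set_option autoImplicit false

/-! Brauer--Reynolds ladder, rung A4701: the text of S4701 from the text of S4700. -/

namespace Cfsg.Agent.Lib.Helper25.BR

open Cfsg Cfsg.Agent.Lib.Helper80.BR

/-- a non-normal Sylow `p`-subgroup of a group of order `< p ^ 3` has order `p` -/
theorem card_sylow_eq_of_lt_cube {G : Type*} [Group G] [Finite G] (p : ℕ) [Fact p.Prime]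
    (hdvd : p ∣ Nat.card G) (hbig : Nat.card G < p ^ 3) (P : Sylow p G)
    (hP : ¬ (P : Subgroup G).Normal) : Nat.card P = p := by
  have hp : p.Prime := Fact.out
  have hc := P.card_eq_multiplicity
  obtain ⟨k, hk⟩ : ∃ k, k = (Nat.card G).factorization p := ⟨_, rfl⟩
  rw [← hk] at hc
  have hG0 : Nat.card G ≠ 0 := Nat.card_pos.ne'
  have hk1 : 1 ≤ k := by
    rw [hk]
    exact (hp.dvd_iff_one_le_factorization hG0).1 hdvd
  have hmul := (P : Subgroup G).card_mul_index
  rcases Nat.lt_or_ge k 2 with h2 | h2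
  · have : k = 1 := by omega
    rw [hc, this, pow_one]
  · exfalso
    have hidx : (P : Subgroup G).index < p := by
      by_contra hge
      push Not at hge
      have h1 : p ^ 2 ≤ Nat.card P := by
        rw [hc]; exact Nat.pow_le_pow_right hp.pos h2
      have h3 : p ^ 2 * p ≤ Nat.card P * (P : Subgroup G).index := Nat.mul_le_mul h1 hge
      have h4 : p ^ 3 = p ^ 2 * p := by ring
      omega
    have hd := P.card_dvd_index
    have hm := card_sylow_modEq_one p G
    have hpos : 0 < (P : Subgroup G).index := Nat.pos_of_ne_zero Subgroup.index_ne_zero_of_finite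
    have hle := Nat.le_of_dvd hpos hd
    have hone : Nat.card (Sylow p G) = 1 := by
      have h5 : Nat.card (Sylow p G) < p := lt_of_le_of_lt hle hidx
      have h6 := hm
      unfold Nat.ModEq at h6
      rw [Nat.mod_eq_of_lt h5, Nat.mod_eq_of_lt hp.one_lt] at h6
      exact h6
    rw [P.card_eq_index_normalizer, Subgroup.index_eq_one] at hone
    exact hP (Subgroup.normalizer_eq_top_iff.1 hone)

/-- the order of `G` is at least `2 p` times the number of Sylow subgroups -/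
theorem two_mul_le_card {G : Type*} [Group G] [Finite G] (hperf : commutator G = ⊤) (p : ℕ)
    [Fact p.Prime] (P : Sylow p G) (hP : Nat.card P = p) :
    Nat.card (Sylow p G) * (2 * p) ≤ Nat.card G := by
  have hb := Cfsg.Agent.Lib.Helper41.BR.two_le_relIndex hperf p P hP
  have hcyc : IsCyclic (P : Subgroup G) := isCyclic_of_prime_card hP
  have hPC : (P : Subgroup G) ≤ Subgroup.centralizer ((P : Subgroup G) : Set G) := by
    intro x hx
    rw [Subgroup.mem_centralizer_iff]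
    intro y hy
    have := hcyc.commGroup.mul_comm (⟨y, hy⟩ : (P : Subgroup G)) ⟨x, hx⟩
    exact congrArg Subtype.val this
  have h1 : p ≤ Nat.card (Subgroup.centralizer ((P : Subgroup G) : Set G)) := by
    calc p = Nat.card (P : Subgroup G) := hP.symm
      _ ≤ _ := Subgroup.card_le_of_le hPC
  have h2 := (Cfsg.Agent.Lib.Helper25.card_eq_relIndex_mul _ _ (Subgroup.centralizer_le_normalizer
    (s := ((P : Subgroup G) : Set G)))).symm
  have h3 := (Subgroup.normalizer ((P : Subgroup G) : Set G)).card_mul_index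
  have h5 : Nat.card (Sylow p G) = (Subgroup.normalizer ((P : Subgroup G) : Set G)).index :=
    P.card_eq_index_normalizer
  rw [← h5] at h3
  have h4 : 2 * p ≤ Nat.card (Subgroup.normalizer ((P : Subgroup G) : Set G)) := by
    rw [← h2]
    exact Nat.mul_le_mul hb h1
  calc Nat.card (Sylow p G) * (2 * p)
      ≤ Nat.card (Sylow p G) * Nat.card (Subgroup.normalizer ((P : Subgroup G) : Set G)) :=
        Nat.mul_le_mul_left _ h4
    _ = Nat.card G := by rw [mul_comm, h3]

/-- a group is isomorphic to its quotient by a normal subgroup of order one -/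
theorem nonempty_equiv_of_quotient {G K : Type*} [Group G] [Group K] (H : Subgroup G) [H.Normal]
    (hH : Nat.card H = 1) (e : Nonempty (G ⧸ H ≃* K)) : Nonempty (G ≃* K) := by
  obtain ⟨e⟩ := e
  have hb : H = ⊥ := Subgroup.card_eq_one.1 hH
  exact ⟨(QuotientGroup.quotientBot.symm.trans
    (QuotientGroup.quotientMulEquivOfEq hb.symm)).trans e⟩

/-- RUNG A4701 -/
theorem s4701_of {G : Type*} [Group G] [Finite G] (hperf : commutator G = ⊤) (p : ℕ) [Fact p.Prime] (hdvd : p ∣ Nat.card G) (hbig : Nat.card G < p ^ 3) (P : Sylow p G) (hP : ¬ (P : Subgroup G).Normal) (h2 : ∀ N : Subgroup G, N.Normal → Nat.card N ≠ 2) (h4700 : ∀ (n : ℕ), Nat.card P = p → Nat.card (Sylow p G) = 1 + n * p → (∃ (F : Type) (_ : Field F) (_ : Fintype F), Fintype.card F = p ∧ 3 < p ∧ Nonempty (G ⧸ Cfsg.pPrimeCore p G ≃* Matrix.ProjectiveSpecialLinearGroup (Fin 2) F)) ∨ (∃ (m : ℕ) (F : Type) (_ : Field F) (_ : Fintype F), Fintype.card F = 2 ^ m ∧ p = 2 ^ m + 1 ∧ 3 < p ∧ Nonempty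 (G ⧸ Cfsg.pPrimeCore p G ≃* Matrix.SpecialLinearGroup (Fin 2) F)) ∨ (∃ h u : ℕ, 0 < h ∧ 0 < u ∧ n * (u + 1) = h * u * p + u ^ 2 + u + h)) : (∃ (F : Type) (_ : Field F) (_ : Fintype F), Fintype.card F = p ∧ 3 < p ∧ Nonempty (G ≃* Matrix.ProjectiveSpecialLinearGroup (Fin 2) F)) ∨ (∃ (m : ℕ) (F : Type) (_ : Field F) (_ : Fintype F), Fintype.card F = 2 ^ m ∧ p = 2 ^ m + 1 ∧ 3 < p ∧ Nonempty (G ≃* Matrix.SpecialLinearGroup (Fin 2) F)) := by
  have hp : p.Prime := Fact.out
  have hPc := card_sylow_eq_of_lt_cube p hdvd hbig P hP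
  have hm := card_sylow_modEq_one p G
  obtain ⟨n, hn⟩ : ∃ n, Nat.card (Sylow p G) = 1 + n * p := by
    have hpos : 1 ≤ Nat.card (Sylow p G) := Nat.card_pos
    have := (Nat.modEq_iff_dvd' hpos).1 hm.symm
    obtain ⟨c, hc⟩ := this
    exact ⟨c, by rw [mul_comm c p]; omega⟩
  have hcardq := Subgroup.card_eq_card_quotient_mul_card_subgroup (Cfsg.pPrimeCore p G)
  have hHpos : 0 < Nat.card (Cfsg.pPrimeCore p G) := Nat.card_pos
  have hH2 := h2 (Cfsg.pPrimeCore p G) inferInstance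
  rcases h4700 n hPc hn with ⟨F, iF, iFt, hF, h3, e⟩ | ⟨m, F, iF, iFt, hF, hpm, h3, e⟩ | hff
  · left
    refine ⟨F, iF, iFt, hF, h3, ?_⟩
    apply nonempty_equiv_of_quotient _ _ e
    obtain ⟨e⟩ := e
    have hF2 : (2 : F) ≠ 0 := by
      intro h0
      have hch : CharP F 2 := by
        refine CharTwo.of_one_ne_zero_of_two_eq_zero one_ne_zero h0
      have h4 : (2 : ℕ) ∣ Fintype.card F := by
        have h5 := Nat.cast_card_eq_zero F
        exact (CharP.cast_eq_zero_iff F 2 _).1 h5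
      rw [hF] at h4
      have := (Nat.prime_dvd_prime_iff_eq Nat.prime_two hp).1 h4
      omega
    have hc := Cfsg.Agent.Lib.Helper7.card_PSL2 (F := F) hF2
    rw [← Nat.card_congr e.toEquiv, hF] at hc
    obtain ⟨a, ha⟩ : ∃ a, a = Nat.card (G ⧸ Cfsg.pPrimeCore p G) := ⟨_, rfl⟩
    obtain ⟨b, hb⟩ : ∃ b, b = Nat.card (Cfsg.pPrimeCore p G) := ⟨_, rfl⟩
    rw [← ha] at hc hcardq
    rw [← hb] at hcardq hHpos hH2 ⊢
    rw [hcardq] at hbig
    by_contra hne
    have hb3 : 3 ≤ b := by omega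
    obtain ⟨t, rfl⟩ : ∃ t, p = t + 4 := ⟨p - 4, by omega⟩
    have e1 : (t + 4) ^ 2 - 1 = (t + 3) * (t + 5) := by
      have : (t + 4) ^ 2 = (t + 3) * (t + 5) + 1 := by ring
      omega
    rw [e1] at hc
    have h6 : a * 3 ≤ a * b := Nat.mul_le_mul_left _ hb3
    nlinarith
  · right
    refine ⟨m, F, iF, iFt, hF, hpm, h3, ?_⟩
    apply nonempty_equiv_of_quotient _ _ e
    obtain ⟨e⟩ := e
    have hc := Cfsg.Agent.Lib.Helper7.card_SL2 (F := F)
    rw [← Nat.card_congr e.toEquiv, hF] at hc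
    obtain ⟨a, ha⟩ : ∃ a, a = Nat.card (G ⧸ Cfsg.pPrimeCore p G) := ⟨_, rfl⟩
    obtain ⟨b, hb⟩ : ∃ b, b = Nat.card (Cfsg.pPrimeCore p G) := ⟨_, rfl⟩
    rw [← ha] at hc hcardq
    rw [← hb] at hcardq hHpos hH2 ⊢
    rw [hcardq] at hbig
    by_contra hne
    have hb3 : 3 ≤ b := by omega
    obtain ⟨t, ht⟩ : ∃ t, 2 ^ m = t + 3 := ⟨2 ^ m - 3, by omega⟩
    rw [ht] at hc hpm
    subst hpm
    have e1 : (t + 3) ^ 2 - 1 = (t + 2) * (t + 4) := by
      have : (t + 3) ^ 2 = (t + 2) * (t + 4) + 1 := by ring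
      omega
    rw [e1] at hc
    have h6 : a * 3 ≤ a * b := Nat.mul_le_mul_left _ hb3
    have ht1 : 1 ≤ t := by
      rcases Nat.eq_zero_or_pos t with h0 | h0
      · subst h0
        exact absurd hp (by norm_num)
      · exact h0
    nlinarith
  · exfalso
    have hb := Cfsg.Agent.Lib.Helper67.BR.fform_bound (p := p) (n := n) hff
    have hc := two_mul_le_card hperf p P hPc
    rw [hn] at hc
    have h7 : (p + 3) * p ≤ 2 * n * p := Nat.mul_le_mul_right _ hb
    nlinarith

end Cfsg.Agent.Lib.Helper25.BR
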