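import Cfsg.Prelude.Def_BlockRank
import Mathlib

/-!
# Blocks of defect one: general lemmas (rank bound, arithmetic)
-/

set_option autoImplicit false
open Cfsg

namespace Cfsg.Agent.Lib.Helper25

section rank

variable {G : Type*} [Group G] [Finite G]

/-- the `p`-regular rank is bounded by the size of any spanning family -/
theorem blockRank_le_card (p : ℕ) (B : Set (IrrCharacter G)) (S : Finset (IrrCharacter G))
    (h : ∀ χ ∈ B, pRegularPart p (χ : G → ℂ) ∈ Submodule.span ℂ
      ((fun χ : IrrCharacter G => pRegularPart p (χ : G → ℂ)) '' (S : Set (IrrCharacter G)))) :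
    blockRank p B ≤ S.card := by
  classical
  unfold blockRank
  have hle : Submodule.span ℂ ((fun χ : IrrCharacter G => pRegularPart p (χ : G → ℂ)) '' B)
      ≤ Submodule.span ℂ
        ((fun χ : IrrCharacter G => pRegularPart p (χ : G → ℂ)) '' (S : Set (IrrCharacter G))) := by
    apply Submodule.span_le.2
    rintro _ ⟨χ, hχ, rfl⟩
    exact h χ hχ
  calc Module.finrank ℂ ↥(Submodule.span ℂ
        ((fun χ : IrrCharacter G => pRegularPart p (χ : G → ℂ)) '' B))
      ≤ Module.finrank ℂ ↥(Submodule.span ℂ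
        ((fun χ : IrrCharacter G => pRegularPart p (χ : G → ℂ)) '' (S : Set (IrrCharacter G)))) :=
        Submodule.finrank_mono hle
    _ ≤ (S.image (fun χ : IrrCharacter G => pRegularPart p (χ : G → ℂ))).card := by
        rw [← Finset.coe_image]
        exact finrank_span_finset_le_card _
    _ ≤ S.card := Finset.card_image_le

end rank

section arith

/-- the arithmetic of the norm equation, at least two exceptional characters -/
theorem defone_arith {ε d t e S : ℤ} (hε : ε = 1 ∨ ε = -1) (ht : 2 ≤ t)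
    (hnorm : (d - ε) ^ 2 + (t - 1) * d ^ 2 + S = e + 1) (hS : e ≤ S) :
    (d = 0 ∨ (t = 2 ∧ d = ε)) ∧ S = e := by
  have hε2 : ε ^ 2 = 1 := by rcases hε with h | h <;> rw [h] <;> norm_num
  by_cases hd : d = 0
  · subst hd
    refine ⟨Or.inl rfl, ?_⟩
    have : (0 - ε) ^ 2 = 1 := by rw [zero_sub, neg_sq, hε2]
    rw [this] at hnorm
    linarith
  · have hd2 : 0 < d ^ 2 := by positivity
    have h1 : d ^ 2 ≤ (t - 1) * d ^ 2 := by nlinarith
    have h2 : 0 ≤ (d - ε) ^ 2 := sq_nonneg _
    have h3 : (d - ε) ^ 2 = 0 := by linarith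
    have h4 : d = ε := by
      have := pow_eq_zero_iff (two_ne_zero) |>.1 h3
      linarith
    subst h4
    rw [hε2] at hnorm h1
    refine ⟨Or.inr ⟨by linarith, rfl⟩, by linarith⟩

/-- a sum of `e` of squares of at least `e` nonzero integers -/
theorem card_eq_of_sum_sq {ι : Type*} (F : Finset ι) (a : ι → ℤ) (e : ℕ)
    (hne : ∀ i ∈ F, a i ≠ 0) (hsum : ∑ i ∈ F, a i ^ 2 = e) (hcard : e ≤ F.card) :
    F.card = e ∧ ∀ i ∈ F, a i = 1 ∨ a i = -1 := by
  have h0 : ∀ i ∈ F, 0 ≤ a i ^ 2 - 1 := by
    intro i hi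
    have : 0 < a i ^ 2 := by have := hne i hi; positivity
    linarith
  have h1 : ∑ i ∈ F, (a i ^ 2 - 1) = (e : ℤ) - F.card := by
    rw [Finset.sum_sub_distrib, hsum]; simp
  have h2 : 0 ≤ ∑ i ∈ F, (a i ^ 2 - 1) := Finset.sum_nonneg h0
  have h3 : (e : ℤ) ≤ F.card := by exact_mod_cast hcard
  have h4 : ∑ i ∈ F, (a i ^ 2 - 1) = 0 := by linarith
  refine ⟨by have : (F.card : ℤ) = e := by linarith
             exact_mod_cast this, ?_⟩
  intro i hi
  have h5 := (Finset.sum_eq_zero_iff_of_nonneg h0).1 h4 i hi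
  have h6 : (a i - 1) * (a i + 1) = 0 := by linear_combination h5
  rcases mul_eq_zero.1 h6 with h | h
  · left; linarith
  · right; linarith

end arith

end Cfsg.Agent.Lib.Helper25
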