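import Cfsg.Agent.Lib.Helper83.BLCore
import Cfsg.Agent.Lib.Helper81.Osima
import Cfsg.Agent.Lib.Helper25.DefOneA

/-!
# Blocks of defect one: the abstract combinatorial core
-/

set_option autoImplicit false
set_option linter.unusedSectionVars false
set_option linter.style.haveILetI false
open Cfsg
open scoped ComplexConjugate

namespace Cfsg.Agent.Lib.Helper25

open Cfsg.Agent.Lib.Helper81 Cfsg.Agent.Lib.Helper83

section

variable {G : Type*} [Group G] [Fintype G] [Fintype (IrrCharacter G)]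

theorem pReg_pos' {p : ℕ} (χ : G → ℂ) {g : G} (hg : ¬ p ∣ orderOf g) :
    pRegularPart p χ g = χ g := by
  unfold pRegularPart
  exact if_pos hg

theorem pReg_neg' {p : ℕ} (χ : G → ℂ) {g : G} (hg : p ∣ orderOf g) :
    pRegularPart p χ g = 0 := by
  unfold pRegularPart
  exact if_neg (fun h => h hg)

open Classical in
theorem shape_core {Ξ : Type*} [Fintype Ξ] (R : Ξ → Ξ → Prop) (hR : Equivalence R) (m : ℤ)
    (k : Ξ → IrrCharacter G → ℤ) (hk : ∀ ξ ξ', R ξ ξ' → k ξ = k ξ')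
    (hgram : ∀ ξ ξ', ∑ χ : IrrCharacter G, k ξ χ * k ξ' χ = m + if R ξ ξ' then 1 else 0)
    (hone : ∀ ξ, zcomb (k ξ) 1 = 0) (h2 : ∃ ξ ξ', ¬ R ξ ξ') :
    ∃ (ε d : ℤ) (ζ : Ξ → IrrCharacter G), (ε = 1 ∨ ε = -1) ∧ (∀ ξ ξ', ζ ξ = ζ ξ' ↔ R ξ ξ') ∧
      (∀ ξ φ, k ξ (ζ φ) = d - if R ξ φ then ε else 0) ∧
      (∀ χ, (∀ φ, χ ≠ ζ φ) → ∀ ξ ξ', k ξ χ = k ξ' χ) := by
  obtain ⟨ξ₀, ξ₁, hnrel⟩ := h2
  let s : Setoid Ξ := ⟨R, hR⟩
  let Q := Quotient s
  have : Fintype Q := Fintype.ofFinite _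
  have hmk : ∀ a b : Ξ, ((Quotient.mk s a : Q) = Quotient.mk s b) ↔ R a b :=
    fun a b => Quotient.eq (r := s)
  have hQ : 2 ≤ Fintype.card Q := by
    have : 1 < Fintype.card Q := by
      rw [Fintype.one_lt_card_iff]
      exact ⟨Quotient.mk s ξ₀, Quotient.mk s ξ₁, fun h => hnrel ((hmk _ _).1 h)⟩
    omega
  let k' : Q → IrrCharacter G → ℤ := fun q => k (Quotient.out q)
  have hkmk : ∀ a : Ξ, k' (Quotient.mk s a) = k a := by
    intro a
    have h1 : R a (Quotient.out (Quotient.mk s a : Q)) := by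
      rw [← hmk, Quotient.out_eq]
    exact (hk _ _ h1).symm
  obtain ⟨ε, d, μ, hε, hinj, hval, hoth⟩ := coherence_core hQ m k'
    (by
      intro q q'
      show ∑ χ : IrrCharacter G, k (Quotient.out q) χ * k (Quotient.out q') χ = _
      rw [hgram]
      have : R (Quotient.out q) (Quotient.out q') ↔ q = q' := by
        rw [← hmk, Quotient.out_eq, Quotient.out_eq]
      simp only [this])
    (fun q => hone _)
  refine ⟨ε, d, fun ξ => μ (Quotient.mk s ξ), hε, ?_, ?_, ?_⟩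
  · intro ξ ξ'
    rw [hinj.eq_iff, hmk]
  · intro ξ φ
    rw [← hkmk ξ, hval]
    simp only [hmk]
  · intro χ hχ ξ ξ'
    rw [← hkmk ξ, ← hkmk ξ']
    apply hoth
    intro j
    have h3 : χ ≠ μ (Quotient.mk s (Quotient.out j)) := hχ (Quotient.out j)
    rwa [Quotient.out_eq] at h3

open Classical in
/-- The abstract description of a block of defect one in terms of the columns `k`. -/
structure CShape (p e : ℕ) {Ξ : Type*} (R : Ξ → Ξ → Prop) (k : Ξ → IrrCharacter G → ℤ)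
    (B X Y : Set (IrrCharacter G)) (a : IrrCharacter G → ℤ) (ε : ℤ) : Prop where
  dvd : e ∣ p - 1
  union : B = X ∪ Y
  disj : Disjoint X Y
  cardX : Nat.card X = e
  cardY : Nat.card Y = (p - 1) / e
  sign : ∀ χ ∈ X, a χ = 1 ∨ a χ = -1
  colX : ∀ χ ∈ X, ∀ ξ, k ξ χ = a χ
  eps : ε = 1 ∨ ε = -1
  colY : ∀ θ ∈ Y, ∃ ξ₀, ∀ ξ, k ξ θ = if R ξ₀ ξ then -ε else 0
  injY : ∀ θ ∈ Y, ∀ θ' ∈ Y, (∀ ξ, k ξ θ = k ξ θ') → θ = θ'
  agree : ∀ θ ∈ Y, ∀ θ' ∈ Y, ∀ g : G, ¬ p ∣ orderOf g → (θ : G → ℂ) g = (θ' : G → ℂ) g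
  rel : ∀ θ ∈ Y, ∀ g : G, ¬ p ∣ orderOf g → (ε : ℂ) * (θ : G → ℂ) g
    = ∑ᶠ χ ∈ X, (a χ : ℂ) * (χ : G → ℂ) g
  inj : ∀ χ ∈ X, ∀ χ' ∈ X, (∀ g : G, ¬ p ∣ orderOf g → (χ : G → ℂ) g = (χ' : G → ℂ) g) → χ = χ'

/-- if the regular parts of `B` are spanned by those of `F` and two members of `F` agree on
regular elements, the rank is smaller than `|F|` -/
theorem blockRank_lt_of_agree (p : ℕ) (B : Set (IrrCharacter G)) (F : Finset (IrrCharacter G))
    (h : ∀ χ ∈ B, pRegularPart p (χ : G → ℂ) ∈ Submodule.span ℂ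
      ((fun χ : IrrCharacter G => pRegularPart p (χ : G → ℂ)) '' (F : Set (IrrCharacter G))))
    {χ χ' : IrrCharacter G} (hχ : χ ∈ F) (hχ' : χ' ∈ F) (hne : χ ≠ χ')
    (hag : ∀ g : G, ¬ p ∣ orderOf g → (χ : G → ℂ) g = (χ' : G → ℂ) g) :
    blockRank p B < F.card := by
  classical
  have h1 : blockRank p B ≤ (F.erase χ').card := by
    apply blockRank_le_card
    intro ψ hψ
    have h2 : Submodule.span ℂ
        ((fun χ : IrrCharacter G => pRegularPart p (χ : G → ℂ)) '' (F : Set (IrrCharacter G)))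
        ≤ Submodule.span ℂ ((fun χ : IrrCharacter G => pRegularPart p (χ : G → ℂ)) ''
          ((F.erase χ' : Finset (IrrCharacter G)) : Set (IrrCharacter G))) := by
      apply Submodule.span_le.2
      rintro _ ⟨φ, hφ, rfl⟩
      by_cases hφ' : φ = χ'
      · have h3 : pRegularPart p (φ : G → ℂ) = pRegularPart p (χ : G → ℂ) := by
          funext g
          by_cases hg : p ∣ orderOf g
          · rw [pReg_neg' _ hg, pReg_neg' _ hg]
          · rw [pReg_pos' _ hg, pReg_pos' _ hg, hφ', hag g hg]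
        show pRegularPart p (φ : G → ℂ) ∈ _
        rw [h3]
        exact Submodule.subset_span ⟨χ, Finset.mem_coe.2 (Finset.mem_erase.2 ⟨hne, hχ⟩), rfl⟩
      · exact Submodule.subset_span ⟨φ, Finset.mem_coe.2 (Finset.mem_erase.2 ⟨hφ', hφ⟩), rfl⟩
    exact h2 (h ψ hψ)
  have h4 := Finset.card_erase_of_mem hχ'
  have h5 : 0 < F.card := Finset.card_pos.2 ⟨χ', hχ'⟩
  omega

open Classical in
theorem core_two (p e : ℕ) [Fact p.Prime] {Ξ : Type*} [Fintype Ξ] (R : Ξ → Ξ → Prop)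
    (hR : Equivalence R) (hcard : Fintype.card Ξ = p - 1)
    (hclass : ∀ ξ, Nat.card {ξ' // R ξ ξ'} = e)
    (k : Ξ → IrrCharacter G → ℤ) (hk : ∀ ξ ξ', R ξ ξ' → k ξ = k ξ')
    (hgram : ∀ ξ ξ', ∑ χ : IrrCharacter G, k ξ χ * k ξ' χ = (e : ℤ) + if R ξ ξ' then 1 else 0)
    (hvan : ∀ ξ (g : G), ¬ p ∣ orderOf g → zcomb (k ξ) g = 0)
    (B : Set (IrrCharacter G)) (hF1 : ∀ ξ χ, k ξ χ ≠ 0 → χ ∈ B)
    (hF2 : ∀ χ ∈ B, ∃ ξ, k ξ χ ≠ 0) (hcrux : e ≤ blockRank p B) (h2 : ∃ ξ ξ', ¬ R ξ ξ') :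
    ∃ (X Y : Set (IrrCharacter G)) (a : IrrCharacter G → ℤ) (ε : ℤ),
      CShape p e R k B X Y a ε := by
  have hp1 : 1 < p := (Fact.out : p.Prime).one_lt
  have hreg1 : ¬ p ∣ orderOf (1 : G) := by
    rw [orderOf_one, Nat.dvd_one]; exact hp1.ne'
  obtain ⟨ε, d, ζ, hε, hinj, hval, hoth⟩ := shape_core R hR (e : ℤ) k hk hgram
    (fun ξ => hvan ξ 1 hreg1) h2
  obtain ⟨ξ₀, ξ₁, hnrel⟩ := h2
  have hε0 : ε ≠ 0 := by rcases hε with h | h <;> rw [h] <;> norm_num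
  have hε2 : ε * ε = 1 := by rcases hε with h | h <;> rw [h] <;> norm_num
  obtain ⟨Yf, hYf⟩ : ∃ Yf : Finset (IrrCharacter G), Yf = Finset.univ.image ζ := ⟨_, rfl⟩
  have hmemY : ∀ χ, χ ∈ Yf ↔ ∃ φ, ζ φ = χ := by intro χ; rw [hYf]; simp
  obtain ⟨a, ha⟩ : ∃ a : IrrCharacter G → ℤ, a = k ξ₀ := ⟨_, rfl⟩
  have hcolN : ∀ χ, χ ∉ Yf → ∀ ξ, k ξ χ = a χ := by
    intro χ hχ ξ
    rw [ha]
    exact hoth χ (fun φ h => hχ ((hmemY χ).2 ⟨φ, h.symm⟩)) ξ ξ₀
  have hcolY : ∀ χ ∈ Yf, ∀ ξ, k ξ χ = d - if χ = ζ ξ then ε else 0 := by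
    intro χ hχ ξ
    obtain ⟨φ, rfl⟩ := (hmemY χ).1 hχ
    rw [hval]
    have : R ξ φ ↔ ζ φ = ζ ξ := by rw [hinj]; exact ⟨hR.symm, hR.symm⟩
    simp only [this]
  obtain ⟨F, hF⟩ : ∃ F : Finset (IrrCharacter G),
      F = Finset.univ.filter (fun χ => χ ∈ B ∧ χ ∉ Yf) := ⟨_, rfl⟩
  have hmemF : ∀ χ, χ ∈ F ↔ χ ∈ B ∧ χ ∉ Yf := by intro χ; rw [hF]; simp
  have hdisjFY : Disjoint Yf F := by
    rw [Finset.disjoint_left]; intro χ h1 h2; exact ((hmemF χ).1 h2).2 h1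
  -- general summation formula
  have hsum : ∀ {S : Type} [CommRing S] (ξ : Ξ) (f : IrrCharacter G → S),
      ∑ χ : IrrCharacter G, ((k ξ χ : ℤ) : S) * f χ
        = (d : S) * ∑ χ ∈ Yf, f χ - (ε : S) * f (ζ ξ) + ∑ χ ∈ F, ((a χ : ℤ) : S) * f χ := by
    intro S _ ξ f
    have h1 : ∑ χ : IrrCharacter G, ((k ξ χ : ℤ) : S) * f χ
        = ∑ χ ∈ Yf ∪ F, ((k ξ χ : ℤ) : S) * f χ := by
      symm
      apply Finset.sum_subset (Finset.subset_univ _)
      intro χ _ hχ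
      rw [Finset.mem_union, not_or] at hχ
      have h3 : k ξ χ = 0 := by
        by_contra h0
        exact hχ.2 ((hmemF χ).2 ⟨hF1 ξ χ h0, hχ.1⟩)
      rw [h3]; simp
    rw [h1, Finset.sum_union hdisjFY]
    congr 1
    · have h4 : ∀ χ ∈ Yf, ((k ξ χ : ℤ) : S) * f χ
          = (d : S) * f χ - (if χ = ζ ξ then (ε : S) * f χ else 0) := by
        intro χ hχ
        rw [hcolY χ hχ ξ]
        split_ifs <;> push_cast <;> ring
      rw [Finset.sum_congr rfl h4, Finset.sum_sub_distrib, ← Finset.mul_sum,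
        Finset.sum_ite_eq' Yf (ζ ξ), if_pos ((hmemY _).2 ⟨ξ, rfl⟩)]
    · apply Finset.sum_congr rfl
      intro χ hχ
      rw [hcolN χ ((hmemF χ).1 hχ).2 ξ]
  -- the number of exceptional characters
  obtain ⟨t, ht⟩ : ∃ t, t = Yf.card := ⟨_, rfl⟩
  have hte : t * e = p - 1 := by
    rw [← hcard, ← Finset.card_univ, Finset.card_eq_sum_card_image ζ Finset.univ, ← hYf]
    have h1 : ∀ χ ∈ Yf, (Finset.univ.filter (fun ξ => ζ ξ = χ)).card = e := by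
      intro χ hχ
      obtain ⟨φ, rfl⟩ := (hmemY χ).1 hχ
      rw [← hclass φ, Nat.card_eq_fintype_card, Fintype.card_subtype]
      congr 1
      ext ξ
      simp only [Finset.mem_filter, Finset.mem_univ, true_and, hinj]
      exact ⟨hR.symm, hR.symm⟩
    rw [Finset.sum_congr rfl h1, Finset.sum_const, ← ht]
    simp
  have ht2 : 2 ≤ t := by
    rw [ht]
    have : 1 < Yf.card := by
      rw [Finset.one_lt_card]
      exact ⟨ζ ξ₀, (hmemY _).2 ⟨_, rfl⟩, ζ ξ₁, (hmemY _).2 ⟨_, rfl⟩,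
        fun h => hnrel ((hinj _ _).1 h)⟩
    omega
  have he0 : 0 < e := by
    rcases Nat.eq_zero_or_pos e with h0 | h0
    · rw [h0] at hte; omega
    · exact h0
  have hne : ∀ χ ∈ F, a χ ≠ 0 := by
    intro χ hχ
    obtain ⟨ξ, hξ⟩ := hF2 χ ((hmemF χ).1 hχ).1
    rwa [hcolN χ ((hmemF χ).1 hχ).2 ξ] at hξ
  have hYB : ∀ χ ∈ Yf, χ ∈ B := by
    intro χ hχ
    obtain ⟨φ, rfl⟩ := (hmemY χ).1 hχ
    obtain ⟨φ', hφ'⟩ : ∃ φ', ¬ R φ' φ := by
      by_cases h0 : R ξ₀ φ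
      · exact ⟨ξ₁, fun h1 => hnrel (hR.trans h0 (hR.symm h1))⟩
      · exact ⟨ξ₀, h0⟩
    by_cases hd : d = 0
    · apply hF1 φ
      rw [hval, if_pos (hR.refl φ), hd]; simpa using hε0
    · apply hF1 φ'
      rw [hval, if_neg hφ']; simpa using hd
  -- norm equation
  have hnorm : (d - ε) ^ 2 + ((t : ℤ) - 1) * d ^ 2 + ∑ χ ∈ F, a χ ^ 2 = (e : ℤ) + 1 := by
    have h1 := hgram ξ₀ ξ₀
    rw [if_pos (hR.refl _)] at h1
    have h2 := hsum (S := ℤ) ξ₀ (k ξ₀)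
    have h3 := hsum (S := ℤ) ξ₀ (fun _ => 1)
    simp only [Int.cast_id, mul_one, Finset.sum_const, nsmul_eq_mul] at h2 h3
    have h4 : ∑ χ ∈ Yf, k ξ₀ χ = (t : ℤ) * d - ε := by
      have h5 : ∀ χ ∈ Yf, k ξ₀ χ = d - (if χ = ζ ξ₀ then ε else 0) := fun χ hχ => hcolY χ hχ ξ₀
      rw [Finset.sum_congr rfl h5, Finset.sum_sub_distrib, Finset.sum_ite_eq' Yf (ζ ξ₀),
        if_pos ((hmemY _).2 ⟨ξ₀, rfl⟩), Finset.sum_const, ← ht]
      simp
    have h6 : k ξ₀ (ζ ξ₀) = d - ε := by rw [hval, if_pos (hR.refl _)]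
    have h7 : ∑ χ ∈ F, a χ * k ξ₀ χ = ∑ χ ∈ F, a χ ^ 2 := by
      apply Finset.sum_congr rfl; intro χ _; rw [ha]; ring
    rw [h4, h6, h7] at h2
    rw [h2] at h1
    linear_combination h1
  -- agreement on regular elements
  have hagree : ∀ ξ ξ' (g : G), ¬ p ∣ orderOf g → (ζ ξ : G → ℂ) g = (ζ ξ' : G → ℂ) g := by
    intro ξ ξ' g hg
    have h1 := hvan ξ g hg
    have h2 := hvan ξ' g hg
    rw [zcomb_apply, hsum (S := ℂ) ξ (fun χ => (χ : G → ℂ) g)] at h1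
    rw [zcomb_apply, hsum (S := ℂ) ξ' (fun χ => (χ : G → ℂ) g)] at h2
    have h3 : (ε : ℂ) * ((ζ ξ : G → ℂ) g - (ζ ξ' : G → ℂ) g) = 0 := by
      linear_combination h2 - h1
    have h4 : (ε : ℂ) ≠ 0 := by exact_mod_cast hε0
    exact sub_eq_zero.1 ((mul_eq_zero.1 h3).resolve_left h4)
  have hrel : ∀ φ (g : G), ¬ p ∣ orderOf g →
      ((t : ℂ) * d - ε) * (ζ φ : G → ℂ) g + ∑ χ ∈ F, (a χ : ℂ) * (χ : G → ℂ) g = 0 := by
    intro φ g hg
    have h1 := hvan φ g hg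
    rw [zcomb_apply, hsum (S := ℂ) φ (fun χ => (χ : G → ℂ) g)] at h1
    have h2 : ∑ χ ∈ Yf, (χ : G → ℂ) g = (t : ℂ) * (ζ φ : G → ℂ) g := by
      have h3 : ∀ χ ∈ Yf, (χ : G → ℂ) g = (ζ φ : G → ℂ) g := by
        intro χ hχ
        obtain ⟨φ', rfl⟩ := (hmemY χ).1 hχ
        exact hagree φ' φ g hg
      rw [Finset.sum_congr rfl h3, Finset.sum_const, ← ht]
      simp
    rw [h2] at h1
    linear_combination h1
  have htd : ((t : ℂ) * d - ε) ≠ 0 := by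
    have h0 : ((t : ℤ) * d - ε) ≠ 0 := by
      intro h0
      have h1 : (t : ℤ) ∣ ε := ⟨d, by linarith⟩
      have h2 : (t : ℤ) ∣ 1 := by
        rcases hε with h' | h' <;> rw [h'] at h1
        · exact h1
        · exact (dvd_neg.1 h1)
      have := Int.le_of_dvd one_pos h2
      omega
    exact_mod_cast h0
  have hspan : ∀ χ ∈ B, pRegularPart p (χ : G → ℂ) ∈ Submodule.span ℂ
      ((fun χ : IrrCharacter G => pRegularPart p (χ : G → ℂ)) '' (F : Set (IrrCharacter G))) := by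
    intro χ hχ
    by_cases hY : χ ∈ Yf
    · obtain ⟨φ, rfl⟩ := (hmemY χ).1 hY
      have h4 : pRegularPart p (ζ φ : G → ℂ) = (-((t : ℂ) * d - ε)⁻¹) •
          ∑ χ' ∈ F, (a χ' : ℂ) • pRegularPart p (χ' : G → ℂ) := by
        funext g
        by_cases hg : p ∣ orderOf g
        · simp [pReg_neg' _ hg, Finset.sum_apply]
        · have h3 := hrel φ g hg
          simp only [Pi.smul_apply, Finset.sum_apply, pReg_pos' _ hg, smul_eq_mul]
          field_simp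
          linear_combination h3
      rw [h4]
      exact Submodule.smul_mem _ _ (Submodule.sum_mem _ (fun χ' hχ' =>
        Submodule.smul_mem _ _ (Submodule.subset_span ⟨χ', hχ', rfl⟩)))
    · exact Submodule.subset_span ⟨χ, (hmemF χ).2 ⟨hχ, hY⟩, rfl⟩
  have hrank : blockRank p B ≤ F.card := blockRank_le_card p B F hspan
  have hS : (e : ℤ) ≤ ∑ χ ∈ F, a χ ^ 2 := by
    have h1 : (F.card : ℤ) ≤ ∑ χ ∈ F, a χ ^ 2 := by
      have h5 : ∑ χ ∈ F, (1 : ℤ) ≤ ∑ χ ∈ F, a χ ^ 2 := Finset.sum_le_sum (fun χ hχ => by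
        have h6 := hne χ hχ
        have h7 : 0 < a χ ^ 2 := by positivity
        linarith)
      simpa using h5
    have h2 : (e : ℤ) ≤ F.card := by exact_mod_cast hcrux.trans hrank
    linarith
  obtain ⟨hd, hSe⟩ := defone_arith hε (by exact_mod_cast ht2) hnorm hS
  obtain ⟨hFc, hsign⟩ := card_eq_of_sum_sq F a e hne hSe (hcrux.trans hrank)
  have hcolY' : ∀ φ, ∃ ξ₂, ∀ ξ, k ξ (ζ φ) = if R ξ₂ ξ then -(ε - t * d) else 0 := by
    intro φ
    rcases hd with hd | ⟨ht', hd⟩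
    · refine ⟨φ, fun ξ => ?_⟩
      rw [hval, hd]
      have : R ξ φ ↔ R φ ξ := ⟨hR.symm, hR.symm⟩
      simp only [this]
      split_ifs <;> ring
    · obtain ⟨φ', hφ'⟩ : ∃ φ', ¬ R φ' φ := by
        by_cases h0 : R ξ₀ φ
        · exact ⟨ξ₁, fun h1 => hnrel (hR.trans h0 (hR.symm h1))⟩
        · exact ⟨ξ₀, h0⟩
      refine ⟨φ', fun ξ => ?_⟩
      rw [hval, hd, ht']
      by_cases h1 : R ξ φ
      · rw [if_pos h1, if_neg (fun h2 => hφ' (hR.trans h2 h1))]; ring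
      · have h2 : R φ' ξ := by
          by_contra h3
          have h4 : ({ζ ξ, ζ φ, ζ φ'} : Finset (IrrCharacter G)) ⊆ Yf := by
            intro χ hχ
            simp only [Finset.mem_insert, Finset.mem_singleton] at hχ
            rcases hχ with rfl | rfl | rfl <;> exact (hmemY _).2 ⟨_, rfl⟩
          have h5 : ({ζ ξ, ζ φ, ζ φ'} : Finset (IrrCharacter G)).card = 3 := by
            rw [Finset.card_eq_three]
            exact ⟨_, _, _, fun h => h1 ((hinj _ _).1 h),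
              fun h => h3 (hR.symm ((hinj _ _).1 h)),
              fun h => hφ' (hR.symm ((hinj _ _).1 h)), rfl⟩
          have h6 := Finset.card_le_card h4
          have h7 : (t : ℤ) = 2 := ht'
          have h8 : t = 2 := by exact_mod_cast h7
          omega
        rw [if_neg h1, if_pos h2]; ring
  refine ⟨(F : Set (IrrCharacter G)), (Yf : Set (IrrCharacter G)), a, ε - t * d, ?_⟩
  constructor
  · exact ⟨t, by rw [← hte, mul_comm]⟩
  · ext χ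
    simp only [Set.mem_union, Finset.mem_coe, hmemF]
    constructor
    · intro h; by_cases h' : χ ∈ Yf
      · exact Or.inr h'
      · exact Or.inl ⟨h, h'⟩
    · rintro (h | h)
      · exact h.1
      · exact hYB χ h
  · rw [Finset.disjoint_coe]; exact hdisjFY.symm
  · rw [Nat.card_coe_set_eq, Set.ncard_coe_finset]; exact hFc
  · rw [Nat.card_coe_set_eq, Set.ncard_coe_finset, ← ht, ← hte, Nat.mul_div_cancel _ he0]
  · exact fun χ hχ => hsign χ hχ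
  · exact fun χ hχ ξ => hcolN χ ((hmemF χ).1 hχ).2 ξ
  · rcases hd with hd | ⟨ht', hd⟩
    · rw [hd]; simpa using hε
    · rw [ht', hd]
      rcases hε with h' | h' <;> rw [h'] <;> norm_num
  · intro θ hθ
    obtain ⟨φ, rfl⟩ := (hmemY θ).1 hθ
    exact hcolY' φ
  · intro θ hθ θ' hθ' hcol
    obtain ⟨φ, rfl⟩ := (hmemY θ).1 hθ
    obtain ⟨φ', rfl⟩ := (hmemY θ').1 hθ'
    rw [hinj]
    by_contra hn
    have h1 := hcol φ
    rw [hval, hval, if_pos (hR.refl _), if_neg hn] at h1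
    apply hε0; linarith
  · intro θ hθ θ' hθ' g hg
    obtain ⟨φ, rfl⟩ := (hmemY θ).1 hθ
    obtain ⟨φ', rfl⟩ := (hmemY θ').1 hθ'
    exact hagree φ φ' g hg
  · intro θ hθ g hg
    obtain ⟨φ, rfl⟩ := (hmemY θ).1 hθ
    have h3 := hrel φ g hg
    rw [finsum_mem_coe_finset]
    push_cast
    linear_combination -h3
  · intro χ hχ χ' hχ' hag
    by_contra hne'
    have := blockRank_lt_of_agree p B F hspan hχ hχ' hne' hag
    omega

open Classical in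
theorem core_one (p e : ℕ) [Fact p.Prime] {Ξ : Type*} [Fintype Ξ] (R : Ξ → Ξ → Prop)
    (hcard : Fintype.card Ξ = p - 1)
    (hclass : ∀ ξ, Nat.card {ξ' // R ξ ξ'} = e)
    (k : Ξ → IrrCharacter G → ℤ) (hk : ∀ ξ ξ', R ξ ξ' → k ξ = k ξ')
    (hgram : ∀ ξ ξ', ∑ χ : IrrCharacter G, k ξ χ * k ξ' χ = (e : ℤ) + if R ξ ξ' then 1 else 0)
    (hvan : ∀ ξ (g : G), ¬ p ∣ orderOf g → zcomb (k ξ) g = 0)
    (B : Set (IrrCharacter G)) (hF1 : ∀ ξ χ, k ξ χ ≠ 0 → χ ∈ B)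
    (hF2 : ∀ χ ∈ B, ∃ ξ, k ξ χ ≠ 0) (hcrux : e ≤ blockRank p B) (h1 : ∀ ξ ξ', R ξ ξ') :
    ∃ (X Y : Set (IrrCharacter G)) (a : IrrCharacter G → ℤ) (ε : ℤ),
      CShape p e R k B X Y a ε := by
  have hp1 : 1 < p := (Fact.out : p.Prime).one_lt
  obtain ⟨ξ₀⟩ : Nonempty Ξ := by
    rw [← Fintype.card_pos_iff, hcard]; omega
  have hep : e = p - 1 := by
    rw [← hclass ξ₀, ← hcard, Nat.card_eq_fintype_card, Fintype.card_subtype]
    rw [Finset.filter_true_of_mem (fun ξ _ => h1 ξ₀ ξ), Finset.card_univ]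
  obtain ⟨a, ha⟩ : ∃ a : IrrCharacter G → ℤ, a = k ξ₀ := ⟨_, rfl⟩
  have hcol : ∀ ξ, k ξ = a := fun ξ => by rw [ha]; exact hk _ _ (h1 _ _)
  obtain ⟨F, hF⟩ : ∃ F : Finset (IrrCharacter G),
      F = Finset.univ.filter (fun χ => χ ∈ B) := ⟨_, rfl⟩
  have hmemF : ∀ χ, χ ∈ F ↔ χ ∈ B := by intro χ; rw [hF]; simp
  have hne : ∀ χ ∈ F, a χ ≠ 0 := by
    intro χ hχ
    obtain ⟨ξ, hξ⟩ := hF2 χ ((hmemF χ).1 hχ)
    rwa [hcol ξ] at hξ
  have hzero : ∀ χ, χ ∉ F → a χ = 0 := by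
    intro χ hχ
    by_contra h0
    exact hχ ((hmemF χ).2 (hF1 ξ₀ χ (by rwa [hcol ξ₀])))
  have hgram' := hgram ξ₀ ξ₀
  rw [if_pos (h1 _ _), hcol] at hgram'
  have hnorm : ∑ χ ∈ F, a χ ^ 2 = ((e + 1 : ℕ) : ℤ) := by
    rw [Nat.cast_add, Nat.cast_one, ← hgram']
    apply Finset.sum_subset_zero_on_sdiff (Finset.subset_univ _)
    · intro χ hχ
      rw [hzero χ (Finset.mem_sdiff.1 hχ).2]; ring
    · intro χ _; ring
  have hrel : ∀ g : G, ¬ p ∣ orderOf g → ∑ χ ∈ F, (a χ : ℂ) * (χ : G → ℂ) g = 0 := by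
    intro g hg
    have h3 := hvan ξ₀ g hg
    rw [zcomb_apply, hcol] at h3
    rw [← h3]
    apply Finset.sum_subset_zero_on_sdiff (Finset.subset_univ _)
    · intro χ hχ
      rw [hzero χ (Finset.mem_sdiff.1 hχ).2]; simp
    · intro χ _; rfl
  obtain ⟨θ₀, hθ₀⟩ : F.Nonempty := by
    rw [Finset.nonempty_iff_ne_empty]
    intro h0
    rw [h0, Finset.sum_empty] at hnorm
    have : (0 : ℤ) < ((e + 1 : ℕ) : ℤ) := by positivity
    omega
  have hrel' : ∀ g : G, ¬ p ∣ orderOf g →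
      (a θ₀ : ℂ) * (θ₀ : G → ℂ) g + ∑ χ ∈ F.erase θ₀, (a χ : ℂ) * (χ : G → ℂ) g = 0 := by
    intro g hg
    rw [Finset.add_sum_erase F (fun χ => (a χ : ℂ) * (χ : G → ℂ) g) hθ₀]
    exact hrel g hg
  have ha0 : (a θ₀ : ℂ) ≠ 0 := by exact_mod_cast hne θ₀ hθ₀
  have hspan : ∀ χ ∈ B, pRegularPart p (χ : G → ℂ) ∈ Submodule.span ℂ
      ((fun χ : IrrCharacter G => pRegularPart p (χ : G → ℂ)) ''
        ((F.erase θ₀ : Finset (IrrCharacter G)) : Set (IrrCharacter G))) := by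
    intro χ hχ
    by_cases hY : χ = θ₀
    · subst hY
      have h4 : pRegularPart p (χ : G → ℂ) = (-(a χ : ℂ)⁻¹) •
          ∑ χ' ∈ F.erase χ, (a χ' : ℂ) • pRegularPart p (χ' : G → ℂ) := by
        funext g
        by_cases hg : p ∣ orderOf g
        · simp [pReg_neg' _ hg, Finset.sum_apply]
        · have h3 := hrel' g hg
          simp only [Pi.smul_apply, Finset.sum_apply, pReg_pos' _ hg, smul_eq_mul]
          field_simp
          linear_combination h3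
      rw [h4]
      exact Submodule.smul_mem _ _ (Submodule.sum_mem _ (fun χ' hχ' =>
        Submodule.smul_mem _ _ (Submodule.subset_span ⟨χ', hχ', rfl⟩)))
    · exact Submodule.subset_span ⟨χ, Finset.mem_coe.2
        (Finset.mem_erase.2 ⟨hY, (hmemF χ).2 hχ⟩), rfl⟩
  have hrank : blockRank p B ≤ (F.erase θ₀).card := blockRank_le_card p B _ hspan
  have hce := Finset.card_erase_of_mem hθ₀
  have hcardF : e + 1 ≤ F.card := by
    have h2 : 0 < F.card := Finset.card_pos.2 ⟨θ₀, hθ₀⟩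
    have h3 := hcrux.trans hrank
    omega
  obtain ⟨hFc, hsign⟩ := card_eq_of_sum_sq F a (e + 1) hne hnorm hcardF
  refine ⟨((F.erase θ₀ : Finset (IrrCharacter G)) : Set (IrrCharacter G)), {θ₀}, a, - a θ₀, ?_⟩
  constructor
  · rw [hep]
  · ext χ
    simp only [Set.mem_union, Finset.mem_coe, Finset.mem_erase, hmemF, Set.mem_singleton_iff]
    constructor
    · intro h; by_cases h' : χ = θ₀
      · exact Or.inr h'
      · exact Or.inl ⟨h', h⟩
    · rintro (h | h)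
      · exact h.2
      · rw [h]; exact (hmemF θ₀).1 hθ₀
  · rw [Set.disjoint_singleton_right]
    simp
  · rw [Nat.card_coe_set_eq, Set.ncard_coe_finset, hce, hFc]; rfl
  · rw [← hep, Nat.div_self (by omega)]
    simp
  · exact fun χ hχ => hsign χ (Finset.mem_of_mem_erase hχ)
  · exact fun χ _ ξ => by rw [hcol]
  · rcases hsign θ₀ hθ₀ with h' | h' <;> rw [h'] <;> norm_num
  · intro θ hθ
    rw [Set.mem_singleton_iff] at hθ
    subst hθ
    exact ⟨ξ₀, fun ξ => by rw [if_pos (h1 _ _), hcol]; ring⟩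
  · intro θ hθ θ' hθ' _
    rw [Set.mem_singleton_iff] at hθ hθ'
    rw [hθ, hθ']
  · intro θ hθ θ' hθ' g _
    rw [Set.mem_singleton_iff] at hθ hθ'
    rw [hθ, hθ']
  · intro θ hθ g hg
    rw [Set.mem_singleton_iff] at hθ
    subst hθ
    have h3 := hrel' g hg
    rw [finsum_mem_coe_finset]
    push_cast
    linear_combination -h3
  · intro χ hχ χ' hχ' hag
    by_contra hne'
    have := blockRank_lt_of_agree p B _ hspan hχ hχ' hne' hag
    omega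

open Classical in
/-- **The abstract core.** -/
theorem defone_core (p e : ℕ) [Fact p.Prime] {Ξ : Type*} [Fintype Ξ] (R : Ξ → Ξ → Prop)
    (hR : Equivalence R) (hcard : Fintype.card Ξ = p - 1)
    (hclass : ∀ ξ, Nat.card {ξ' // R ξ ξ'} = e)
    (k : Ξ → IrrCharacter G → ℤ) (hk : ∀ ξ ξ', R ξ ξ' → k ξ = k ξ')
    (hgram : ∀ ξ ξ', ∑ χ : IrrCharacter G, k ξ χ * k ξ' χ = (e : ℤ) + if R ξ ξ' then 1 else 0)
    (hvan : ∀ ξ (g : G), ¬ p ∣ orderOf g → zcomb (k ξ) g = 0)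
    (B : Set (IrrCharacter G)) (hF1 : ∀ ξ χ, k ξ χ ≠ 0 → χ ∈ B)
    (hF2 : ∀ χ ∈ B, ∃ ξ, k ξ χ ≠ 0) (hcrux : e ≤ blockRank p B) :
    ∃ (X Y : Set (IrrCharacter G)) (a : IrrCharacter G → ℤ) (ε : ℤ),
      CShape p e R k B X Y a ε := by
  by_cases h : ∃ ξ ξ', ¬ R ξ ξ'
  · exact core_two p e R hR hcard hclass k hk hgram hvan B hF1 hF2 hcrux h
  · push Not at h
    exact core_one p e R hcard hclass k hk hgram hvan B hF1 hF2 hcrux h

end

end Cfsg.Agent.Lib.Helper25
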