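import Cfsg.Agent.Lib.Helper98.BL.Key
import Cfsg.Agent.Lib.Helper25.DefOneC

/-!
# Blocks of defect one: the columns attached to a `P`-trivial irreducible character of `C_G(P)`
-/

set_option autoImplicit false
set_option linter.unusedSectionVars false
set_option linter.style.haveILetI false
open Cfsg
open scoped ComplexConjugate

namespace Cfsg.Agent.Lib.Helper25

open Cfsg.Agent.Lib.Helper20 Cfsg.Agent.Lib.Helper32 Cfsg.Agent.Lib.Helper83
  Cfsg.Agent.Lib.Helper98.BL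

universe u

variable {G : Type u} [Group G]

/-- extra properties of the data -/
structure DExtra (D : Data G) (p : ℕ) : Prop where
  cardZ : Nat.card D.Z = p
  hNZ : ∀ (x : D.N) (z : D.Z), (x : G)⁻¹ * z * x ∈ D.Z
  hreg : ∀ c : D.C, D.r c = 1 ↔ ¬ p ∣ orderOf c
  cardC : ∃ m, Nat.card D.C = p * m ∧ ¬ p ∣ m
  hCz : ∀ z : D.Z, z ≠ 1 → Subgroup.centralizer ({(z : G)} : Set G) ≤ D.C
  hCZ : Subgroup.centralizer (D.Z : Set G) ≤ D.C
  hNN : Subgroup.normalizer (D.C : Set G) = Subgroup.normalizer (D.Z : Set G)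
  hsyl : ∀ g : G, orderOf g = p → ∃ x : G, x * g * x⁻¹ ∈ D.Z

namespace DExtra

variable {D : Data G} {p : ℕ} (E : DExtra D p)

/-- conjugation on `Z` -/
def zc (x : D.N) : D.Z ≃* D.Z where
  toFun z := ⟨(x : G)⁻¹ * z * x, E.hNZ x z⟩
  invFun z := ⟨(x : G) * z * (x : G)⁻¹, by simpa using E.hNZ x⁻¹ z⟩
  left_inv z := by
    apply Subtype.ext
    simp [mul_assoc]
  right_inv z := by
    apply Subtype.ext
    simp [mul_assoc]
  map_mul' a b := by
    apply Subtype.ext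
    simp [mul_assoc]

theorem cj_inZ (x : D.N) (z : D.Z) : D.cj x (D.inZ z) = D.inZ (E.zc x z) := rfl

theorem r_cj (x : D.N) (c : D.C) : D.r (D.cj x c) = E.zc x (D.r c) := by
  obtain ⟨k, hk⟩ : ∃ k : D.C, k = (D.inZ (D.r c))⁻¹ * c := ⟨_, rfl⟩
  have hk1 : D.r k = 1 := by rw [hk, map_mul, map_inv, D.r_inZ]; simp
  have hc : c = D.inZ (D.r c) * k := by rw [hk]; group
  have hk2 : D.r (D.cj x k) = 1 := by
    rw [E.hreg, MulEquiv.orderOf_eq, ← E.hreg]; exact hk1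
  conv_lhs => rw [hc, map_mul, map_mul, hk2, mul_one, E.cj_inZ, D.r_inZ]

/-- the action on the dual group -/
def xa (x : D.N) (κ : D.X) : D.X := κ.comp (E.zc x).toMonoidHom

theorem xa_apply (x : D.N) (κ : D.X) (z : D.Z) : E.xa x κ z = κ (E.zc x z) := rfl

theorem hat_cj (x : D.N) (κ : D.X) : D.hat κ ∘ D.cj x = D.hat (E.xa x κ) := by
  funext c
  simp only [Function.comp_apply, Data.hat, E.r_cj, xa_apply]

theorem xa_eq_one_iff (x : D.N) (κ : D.X) : E.xa x κ = 1 ↔ κ = 1 := by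
  constructor
  · intro h
    apply MonoidHom.ext
    intro z
    have := congrArg (fun f : D.X => f ((E.zc x).symm z)) h
    simpa [xa_apply] using this
  · rintro rfl
    rfl

include E in
theorem pTriv_cj {θ : D.C → ℂ} (h : D.PTriv θ) (x : D.N) : D.PTriv (θ ∘ D.cj x) := by
  intro z
  simp only [Function.comp_apply, E.cj_inZ, map_one]
  exact h _

theorem zk_cj (θ : D.C → ℂ) (κ : D.X) (x : D.N) :
    D.zk θ κ ∘ D.cj x = D.zk (θ ∘ D.cj x) (E.xa x κ) := by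
  funext c
  have := congrFun (E.hat_cj x κ) c
  simp only [Function.comp_apply] at this
  simp only [Function.comp_apply, Data.zk_apply, this]

theorem irr_one_ne {H : Type*} [Group H] {θ : H → ℂ} (hθ : IsIrrCharacter H θ) : θ 1 ≠ 0 := by
  obtain ⟨n, hn, h⟩ := irr_apply_one hθ
  rw [h]; exact_mod_cast hn.ne'

theorem cj_zk_iff [Finite G] {θ : D.C → ℂ} (hθ : IsIrrCharacter D.C θ) (hθP : D.PTriv θ)
    (κ κ' : D.X) (x : D.N) :
    D.zk θ κ ∘ D.cj x = D.zk θ κ' ↔ θ ∘ D.cj x = θ ∧ E.xa x κ = κ' := by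
  have h0 : θ 1 ≠ 0 := irr_one_ne hθ
  constructor
  · intro h
    rw [E.zk_cj] at h
    have h1 : θ ∘ D.cj x = D.zk θ (κ' * (E.xa x κ)⁻¹) := by
      funext c
      have h2 := congrFun h c
      simp only [Data.zk_apply, Data.hat] at h2 ⊢
      rw [MonoidHom.mul_apply, MonoidHom.inv_apply, Units.val_mul, Units.val_inv_eq_inv_val,
        mul_assoc, mul_comm _ (θ c), ← mul_assoc, ← h2]
      field_simp
    have h3 : κ' * (E.xa x κ)⁻¹ = 1 := by
      by_contra hne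
      exact D.zk_not_pTriv hθP h0 hne (h1 ▸ E.pTriv_cj hθP x)
    refine ⟨by rw [h1, h3, D.zk_one], ?_⟩
    exact (mul_inv_eq_one.1 h3).symm
  · rintro ⟨h1, h2⟩
    rw [E.zk_cj, h1, h2]

include E in
theorem not_cj_zk_self [Finite G] {θ : D.C → ℂ} (hθ : IsIrrCharacter D.C θ) (hθP : D.PTriv θ)
    {κ : D.X} (hκ : κ ≠ 1) : ¬ D.Cj (D.zk θ κ) θ := by
  rintro ⟨x, hx⟩
  have h1 : D.zk θ κ ∘ D.cj x = D.zk θ 1 := by rw [hx, D.zk_one]
  exact hκ ((E.xa_eq_one_iff x κ).1 ((E.cj_zk_iff hθ hθP κ 1 x).1 h1).2)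

section Fin

variable [Fintype G] [Fintype D.C] [Fintype D.N]

include E in
open Classical in
theorem card_class [Fintype D.X] {θ : D.C → ℂ} (hθ : IsIrrCharacter D.C θ) (hθP : D.PTriv θ)
    (e : ℕ) (he : Nat.card {x : D.N // θ ∘ D.cj x = θ} = e * Nat.card D.C) {κ : D.X}
    (hκ : κ ≠ 1) : Nat.card {κ' : D.X // D.Cj (D.zk θ κ) (D.zk θ κ')} = e := by
  have h0 : θ 1 ≠ 0 := irr_one_ne hθ
  have h1 : Nat.card {x : D.N // θ ∘ D.cj x = θ}
      = ∑ κ' : D.X, Nat.card {x : D.N // D.zk θ κ ∘ D.cj x = D.zk θ κ'} := by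
    rw [Nat.card_eq_fintype_card, Fintype.card_subtype,
      Finset.card_eq_sum_card_fiberwise (f := fun x => E.xa x κ) (t := Finset.univ)
        (fun x _ => Finset.mem_coe.2 (Finset.mem_univ _))]
    apply Finset.sum_congr rfl
    intro κ' _
    rw [Nat.card_eq_fintype_card, Fintype.card_subtype, Finset.filter_filter]
    congr 1
    ext x
    simp only [Finset.mem_filter, Finset.mem_univ, true_and]
    exact (E.cj_zk_iff hθ hθP κ κ' x).symm
  have h2 : ∀ κ' : D.X, Nat.card {x : D.N // D.zk θ κ ∘ D.cj x = D.zk θ κ'}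
      = if D.Cj (D.zk θ κ) (D.zk θ κ') then Nat.card D.C else 0 := by
    intro κ'
    split_ifs with h
    · exact D.card_fibre_eq (D.isIrr_zk hθ κ) (D.zk_not_pTriv hθP h0 hκ) h
    · haveI : IsEmpty {x : D.N // D.zk θ κ ∘ D.cj x = D.zk θ κ'} := ⟨fun x => h ⟨x.1, x.2⟩⟩
      exact Nat.card_of_isEmpty
  rw [he] at h1
  simp_rw [h2] at h1
  rw [← Finset.sum_filter, Finset.sum_const, smul_eq_mul] at h1
  have h3 : 0 < Nat.card D.C := Nat.card_pos
  rw [Nat.card_eq_fintype_card, Fintype.card_subtype]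
  exact (Nat.eq_of_mul_eq_mul_right h3 h1).symm

include E in
open Classical in
theorem gram_ind {θ : D.C → ℂ} (hθ : IsIrrCharacter D.C θ) (hθP : D.PTriv θ)
    (e : ℕ) (he : Nat.card {x : D.N // θ ∘ D.cj x = θ} = e * Nat.card D.C) {κ κ' : D.X}
    (hκ : κ ≠ 1) (hκ' : κ' ≠ 1) :
    classInner (indFun D.C (θ - D.zk θ κ)) (indFun D.C (θ - D.zk θ κ'))
      = (e : ℂ) + if D.Cj (D.zk θ κ) (D.zk θ κ') then 1 else 0 := by
  have h0 : θ 1 ≠ 0 := irr_one_ne hθ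
  rw [D.inner_ind_sub θ (D.zk θ κ) θ (D.zk θ κ') (fun c hc => (D.zk_of_r θ κ hc).symm)]
  have hC : (Nat.card D.C : ℂ) ≠ 0 := by exact_mod_cast Nat.card_pos.ne'
  have h1 : D.cc θ θ = e := by
    rw [D.cc_eq_card hθ hθ, he]
    push_cast
    field_simp
  have h2 : D.cc (D.zk θ κ) θ = 0 :=
    D.cc_of_not_cj (D.isIrr_zk hθ κ) hθ (E.not_cj_zk_self hθ hθP hκ)
  have h3 : D.cc θ (D.zk θ κ') = 0 :=
    D.cc_of_not_cj hθ (D.isIrr_zk hθ κ') (fun h => E.not_cj_zk_self hθ hθP hκ' h.symm)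
  have h4 := D.cc_eq_ite (D.isIrr_zk hθ κ) (D.isIrr_zk hθ κ') (D.zk_not_pTriv hθP h0 hκ)
  rw [h1, h2, h3, h4]
  ring

include E in
theorem ind_vanish (θ : D.C → ℂ) (κ : D.X) {g : G} (hg : ¬ p ∣ orderOf g) :
    indFun D.C (θ - D.zk θ κ) g = 0 := by
  rw [Cfsg.Agent.Lib.Helper19.indFun_apply]
  rw [Finset.sum_eq_zero, mul_zero]
  intro x _
  by_cases hC : x⁻¹ * g * x ∈ D.C
  · rw [Cfsg.Agent.Lib.Helper19.extendByZero_of_mem D.C _ hC]
    have h1 : D.r ⟨_, hC⟩ = 1 := by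
      rw [E.hreg, Subgroup.orderOf_mk]
      have : orderOf (x⁻¹ * g * x) = orderOf g := by
        have h2 : x⁻¹ * g * x = MulAut.conj x⁻¹ g := by simp [MulAut.conj_apply]
        rw [h2, MulEquiv.orderOf_eq]
      rwa [this]
    simp [D.zk_of_r θ κ h1]
  · exact Cfsg.Agent.Lib.Helper19.extendByZero_of_not_mem D.C _ hC

end Fin

end DExtra

section col

variable (D : Data G) [Fintype G] [Fintype D.C] [Fintype D.N]

/-- the columns -/
noncomputable def kcol (θ : D.C → ℂ) (κ : D.X) (χ : IrrCharacter G) : ℤ :=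
  ⌊(classInner (indFun D.C (θ - D.zk θ κ)) (χ : G → ℂ)).re⌋

theorem kcol_spec {θ : D.C → ℂ} (hθ : IsIrrCharacter D.C θ) (κ : D.X) (χ : IrrCharacter G) :
    classInner (indFun D.C (θ - D.zk θ κ)) (χ : G → ℂ) = (kcol D θ κ χ : ℂ) := by
  obtain ⟨n, hn⟩ := genChar_inner_irr_int (D.genChar_ind_sub hθ (D.isIrr_zk hθ κ)) χ.2
  unfold kcol
  rw [hn]
  simp

theorem zcomb_kcol [Fintype (IrrCharacter G)] {θ : D.C → ℂ} (hθ : IsIrrCharacter D.C θ)
    (κ : D.X) : zcomb (kcol D θ κ) = indFun D.C (θ - D.zk θ κ) :=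
  (genChar_expand (D.genChar_ind_sub hθ (D.isIrr_zk hθ κ)) (kcol_spec D hθ κ)).symm

theorem kcol_eq_mm {θ : D.C → ℂ} (hθ : IsIrrCharacter D.C θ) (κ : D.X) (χ : IrrCharacter G) :
    (kcol D θ κ χ : ℂ) = D.mm χ θ - D.mm χ (D.zk θ κ) := by
  rw [← kcol_spec D hθ κ χ]
  exact D.inner_ind_sub_irr (isCharacter_of_isIrrCharacter χ.2) hθ (D.isIrr_zk hθ κ)

end col

end Cfsg.Agent.Lib.Helper25
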