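import Cfsg.Agent.Lib.Helper25.DefOneD
import Cfsg.Agent.Lib.Helper81.ClassSum
import Cfsg.Agent.Lib.Helper81.BrauerElement
import Cfsg.Agent.Lib.Helper81.Contrib
import Cfsg.Agent.Lib.Helper46.SL2CharDual

/-!
# Blocks of defect one: the blocks of `C_G(P)`
-/

set_option autoImplicit false
set_option linter.unusedSectionVars false
set_option linter.style.haveILetI false
open Cfsg
open scoped ComplexConjugate

namespace Cfsg.Agent.Lib.Helper25

open Cfsg.Agent.Lib.Helper20 Cfsg.Agent.Lib.Helper32 Cfsg.Agent.Lib.Helper83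
  Cfsg.Agent.Lib.Helper98.BL Cfsg.Agent.Lib.Helper81 Cfsg.Agent.Lib.Helper46

universe u

section osima

variable {H : Type*} [Group H] [Fintype H] {p : ℕ} {M : Ideal AlgInt}

/-- converse of Osima's theorem -/
theorem blockOf_subset_of_local (hM : IsPModular p M) (S : Set (IrrCharacter H))
    (hS : ∀ g, MemLocalRing M (blockCoeff S g)) {χ : IrrCharacter H} (hχ : χ ∈ S) :
    blockOf M (χ : H → ℂ) ⊆ S := by
  classical
  intro ψ hψ
  by_contra hn
  have h1 := omega_sub_memLocalIdeal hM (χ := χ) (ψ := ψ) hψ (blockCoeff_classFunction S) hS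
  rw [omega_blockCoeff, omega_blockCoeff, if_pos hχ, if_neg hn, sub_zero] at h1
  exact not_memLocalIdeal_one hM h1

/-- a character of defect zero is alone in its block -/
theorem blockOf_eq_singleton_of_defect_zero (hM : IsPModular p M) (χ : IrrCharacter H)
    (h : (charDegree (χ : H → ℂ)).factorization p = (Nat.card H).factorization p) :
    blockOf M (χ : H → ℂ) ⊆ {χ} := by
  apply blockOf_subset_of_local hM _ _ (Set.mem_singleton χ)
  intro g
  unfold blockCoeff
  rw [finsum_mem_singleton, ← mul_assoc]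
  apply memLocalRing_mul hM
  · rw [Cfsg.Agent.Lib.Helper82.isChar_one_eq (isCharacter_of_isIrrCharacter χ.2), mul_comm,
      ← div_eq_mul_inv]
    exact Cfsg.Agent.Lib.Helper81.memLocalRing_natCast_div hM
      (Cfsg.Agent.Lib.Helper82.isIrr_charDegree_pos χ.2).ne' Nat.card_pos.ne' h.ge
  · exact memLocalRing_of_isIntegral hM
      (isCharacter_isIntegral (isCharacter_conj (isCharacter_of_isIrrCharacter χ.2)) g)

end osima

section tw

variable {G : Type u} [Group G] {D : Data G} {p : ℕ} [Fact p.Prime] (E : DExtra D p)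
  {M : Ideal AlgInt}

theorem Z_comm (D : Data G) (a b : D.Z) : a * b = b * a :=
  Subtype.ext (D.hcent a a.2 b (D.hZC b.2))

include E in
theorem DExtra.sum_hat [Fintype D.X] (c : D.C) [Decidable (D.r c = 1)] :
    ∑ κ : D.X, D.hat κ c = if D.r c = 1 then (p : ℂ) else 0 := by
  haveI : Finite D.Z := Nat.finite_of_card_ne_zero (by rw [E.cardZ]; exact (Fact.out : p.Prime).ne_zero)
  have h := sum_hom_dual (Z_comm D) (D.r c)
  rw [E.cardZ] at h
  exact h

include E in
theorem DExtra.hat_pow (κ : D.X) (c : D.C) : D.hat κ c ^ p ^ 1 = 1 := by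
  have h1 : (D.r c) ^ p = 1 := by rw [← E.cardZ]; exact pow_card_eq_one'
  unfold Data.hat
  rw [pow_one, ← Units.val_pow_eq_pow_val, ← map_pow, h1, map_one, Units.val_one]

variable [Finite G]

/-- twisting an irreducible character of `C` by a linear character of `Z` -/
noncomputable def tw (ξ : IrrCharacter D.C) (κ : D.X) : IrrCharacter D.C :=
  ⟨D.zk ξ κ, D.isIrr_zk ξ.2 κ⟩

theorem tw_coe (ξ : IrrCharacter D.C) (κ : D.X) : (tw ξ κ : D.C → ℂ) = D.zk ξ κ := rfl

theorem tw_one (ξ : IrrCharacter D.C) : tw ξ 1 = ξ := Subtype.ext (D.zk_one _)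

theorem tw_tw (ξ : IrrCharacter D.C) (κ κ' : D.X) : tw (tw ξ κ) κ' = tw ξ (κ' * κ) := by
  apply Subtype.ext
  funext c
  simp only [tw_coe, Data.zk_apply, D.hat_mul, Pi.mul_apply]
  ring

theorem tw_injective {ξ₀ : IrrCharacter D.C} (h : D.PTriv ξ₀) :
    Function.Injective (tw ξ₀) := by
  intro κ κ' hk
  exact D.zk_injective h (DExtra.irr_one_ne ξ₀.2) (congrArg Subtype.val hk)

theorem eq_one_of_pTriv_tw {ξ₀ : IrrCharacter D.C} (h : D.PTriv ξ₀) {κ : D.X}
    (h' : D.PTriv (tw ξ₀ κ : D.C → ℂ)) : κ = 1 := by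
  by_contra hne
  exact D.zk_not_pTriv h (DExtra.irr_one_ne ξ₀.2) hne h'

include E in
theorem DExtra.sameBlock_tw [Fintype D.C] (hM : IsPModular p M) (ξ : IrrCharacter D.C) (κ : D.X) :
    SameBlock M (ξ : D.C → ℂ) (tw ξ κ : D.C → ℂ) := by
  intro c
  have h1 : centralChar (ξ : D.C → ℂ) c - centralChar (tw ξ κ : D.C → ℂ) c
      = centralChar (ξ : D.C → ℂ) c * (-(D.hat κ c - 1)) := by
    unfold centralChar
    rw [tw_coe, D.zk_apply_one, D.zk_apply]
    ring
  rw [h1]
  exact memLocalIdeal_mul_left hM (centralChar_memLocalRing hM ξ c)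
    (memLocalIdeal_neg (memLocalIdeal_sub_one_of_pow_eq_one hM (E.hat_pow κ c)))

include E in
open Classical in
theorem DExtra.blockCoeff_range [Fintype D.C] [Fintype D.X] {ξ₀ : IrrCharacter D.C} (h : D.PTriv ξ₀)
    (c : D.C) : blockCoeff (Set.range (tw ξ₀)) c
      = (Nat.card D.C : ℂ)⁻¹ * ((ξ₀ : D.C → ℂ) 1 * conj ((ξ₀ : D.C → ℂ) c) *
        if D.r c = 1 then (p : ℂ) else 0) := by
  unfold blockCoeff
  rw [finsum_mem_range (tw_injective h), finsum_eq_sum_of_fintype]
  congr 1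
  have h1 : ∀ κ : D.X, (tw ξ₀ κ : D.C → ℂ) 1 * conj ((tw ξ₀ κ : D.C → ℂ) c)
      = (ξ₀ : D.C → ℂ) 1 * conj ((ξ₀ : D.C → ℂ) c) * conj (D.hat κ c) := by
    intro κ
    rw [tw_coe, D.zk_apply_one, D.zk_apply, map_mul]
    ring
  simp_rw [h1]
  rw [← Finset.mul_sum, ← map_sum, E.sum_hat c]
  congr 1
  split_ifs <;> simp

include E in
theorem DExtra.blockOf_eq_range [Fintype D.C] (hM : IsPModular p M) {ξ₀ : IrrCharacter D.C}
    (h : D.PTriv ξ₀) : blockOf M (ξ₀ : D.C → ℂ) = Set.range (tw ξ₀) := by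
  classical
  haveI : Finite D.Z := Nat.finite_of_card_ne_zero (by rw [E.cardZ]; exact (Fact.out : p.Prime).ne_zero)
  haveI : Finite D.X := finite_hom (Z_comm D)
  haveI : Fintype D.X := Fintype.ofFinite _
  apply Set.Subset.antisymm
  · refine blockOf_subset_of_local hM (Set.range (tw ξ₀)) ?_ ⟨1, tw_one ξ₀⟩
    intro c
    rw [E.blockCoeff_range h c]
    obtain ⟨m, hm, hpm⟩ := E.cardC
    have hp0 : (p : ℂ) ≠ 0 := by exact_mod_cast (Fact.out : p.Prime).ne_zero
    have hint : MemLocalRing M ((ξ₀ : D.C → ℂ) 1 * conj ((ξ₀ : D.C → ℂ) c)) :=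
      memLocalRing_mul hM
        (memLocalRing_of_isIntegral hM
          (isCharacter_isIntegral (isCharacter_of_isIrrCharacter ξ₀.2) 1))
        (memLocalRing_of_isIntegral hM
          (isCharacter_isIntegral (isCharacter_conj (isCharacter_of_isIrrCharacter ξ₀.2)) c))
    split_ifs with hc
    · have h2 : (Nat.card D.C : ℂ)⁻¹ * ((ξ₀ : D.C → ℂ) 1 * conj ((ξ₀ : D.C → ℂ) c) * (p : ℂ))
          = (m : ℂ)⁻¹ * ((ξ₀ : D.C → ℂ) 1 * conj ((ξ₀ : D.C → ℂ) c)) := by
        rw [hm]
        push_cast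
        have hm0 : (m : ℂ) ≠ 0 := by
          intro h0
          have : m = 0 := by exact_mod_cast h0
          exact hpm (this ▸ dvd_zero p)
        field_simp
      rw [h2]
      exact memLocalRing_mul hM (memLocalRing_inv (memLocalRing_natCast hM m)
        (fun h3 => hpm ((memLocalIdeal_natCast_iff hM m).1 h3))) hint
    · simpa using memLocalRing_zero hM
  · rintro _ ⟨κ, rfl⟩
    exact E.sameBlock_tw hM ξ₀ κ

end tw

end Cfsg.Agent.Lib.Helper25
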