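import Cfsg.Agent.Lib.Helper25.DefOneE

/-!
# Blocks of defect one: consequences of the second main theorem
-/

set_option autoImplicit false
set_option linter.unusedSectionVars false
set_option linter.style.haveILetI false
open Cfsg
open scoped ComplexConjugate

namespace Cfsg.Agent.Lib.Helper25

open Cfsg.Agent.Lib.Helper20 Cfsg.Agent.Lib.Helper32 Cfsg.Agent.Lib.Helper83
  Cfsg.Agent.Lib.Helper98.BL Cfsg.Agent.Lib.Helper81 Cfsg.Agent.Lib.Helper46

universe u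

section fourier

variable {A : Type*} [Group A] [Fintype A] [Fintype (A →* ℂˣ)]

/-- Fourier inversion: a function on the dual group whose transform is supported at `1` is
constant -/
theorem fourier_const (m : (A →* ℂˣ) → ℂ)
    (h : ∀ z : A, z ≠ 1 → ∑ κ : A →* ℂˣ, ((κ z : ℂˣ) : ℂ) * m κ = 0) (κ₁ : A →* ℂˣ) :
    (Nat.card A : ℂ) * m κ₁ = ∑ κ : A →* ℂˣ, m κ := by
  classical
  have h1 : ∑ z : A, conj ((κ₁ z : ℂˣ) : ℂ) * ∑ κ : A →* ℂˣ, ((κ z : ℂˣ) : ℂ) * m κ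
      = ∑ κ : A →* ℂˣ, m κ := by
    rw [Finset.sum_eq_single (1 : A)]
    · simp
    · intro z _ hz
      rw [h z hz, mul_zero]
    · intro h0; exact absurd (Finset.mem_univ _) h0
  rw [← h1]
  simp_rw [Finset.mul_sum]
  rw [Finset.sum_comm]
  have h2 : ∀ κ : A →* ℂˣ, ∑ z : A, conj ((κ₁ z : ℂˣ) : ℂ) * (((κ z : ℂˣ) : ℂ) * m κ)
      = (if κ = κ₁ then (Nat.card A : ℂ) else 0) * m κ := by
    intro κ
    rw [← sum_hom_orth κ κ₁, Finset.sum_mul]
    apply Finset.sum_congr rfl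
    intro z _
    ring
  simp_rw [h2]
  rw [Finset.sum_eq_single κ₁]
  · rw [if_pos rfl]
  · intro κ _ hκ
    rw [if_neg hκ, zero_mul]
  · intro h0; exact absurd (Finset.mem_univ _) h0

end fourier

section second

variable {G : Type u} [Group G] {D : Data G} {p : ℕ} [Fact p.Prime] (E : DExtra D p)
  {M : Ideal AlgInt} [Fintype G] [Fintype D.C] [Fintype D.N]

theorem pTriv_mul {ξ₀ : D.C → ℂ} (hξ : IsIrrCharacter D.C ξ₀) (h : D.PTriv ξ₀) (z : D.Z)
    (c : D.C) : ξ₀ (D.inZ z * c) = ξ₀ c := by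
  have h1 := Cfsg.Agent.Lib.Helper82.isIrr_central_mul hξ (D.inZ_mem_center z) c
  rw [h z] at h1
  have h0 := DExtra.irr_one_ne hξ
  have h2 : ξ₀ 1 * ξ₀ (D.inZ z * c) = ξ₀ 1 * ξ₀ c := by linear_combination h1
  exact mul_left_cancel₀ h0 h2

include E in
theorem DExtra.inner_shift (χ : G → ℂ) {ξ₀ : D.C → ℂ} (hξ : IsIrrCharacter D.C ξ₀)
    (h : D.PTriv ξ₀) (κ : D.X) (z : D.Z) :
    classInner (fun c : D.C => χ ((z : G) * (c : G))) (D.zk ξ₀ κ)
      = ((κ z : ℂˣ) : ℂ) * D.mm χ (D.zk ξ₀ κ) := by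
  haveI : Finite D.Z := Nat.finite_of_card_ne_zero
    (by rw [E.cardZ]; exact (Fact.out : p.Prime).ne_zero)
  unfold Data.mm classInner
  rw [mul_left_comm]
  congr 1
  rw [← Equiv.sum_comp (Equiv.mulLeft (D.inZ z)) (fun c => D.res χ c * conj (D.zk ξ₀ κ c)),
    Finset.mul_sum]
  apply Finset.sum_congr rfl
  intro c _
  have h1 : D.zk ξ₀ κ (D.inZ z * c) = ((κ z : ℂˣ) : ℂ) * D.zk ξ₀ κ c := by
    rw [D.zk_apply, D.zk_apply, pTriv_mul hξ h]
    unfold Data.hat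
    rw [map_mul, D.r_inZ, map_mul, Units.val_mul]
    ring
  have h2 : ((κ z : ℂˣ) : ℂ) * conj ((κ z : ℂˣ) : ℂ) = 1 := by
    rw [Complex.mul_conj, Complex.normSq_eq_norm_sq, hom_norm]; simp
  simp only [Equiv.coe_mulLeft, h1, map_mul, Data.res_apply]
  have h3 : ((D.inZ z * c : D.C) : G) = (z : G) * (c : G) := rfl
  rw [h3]
  linear_combination (- χ ((z : G) * (c : G)) * conj (D.zk ξ₀ κ c)) * h2

include E in
theorem DExtra.orderOf_Z (z : D.Z) (hz : z ≠ 1) : orderOf (z : G) = p ^ 1 := by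
  rw [pow_one, Subgroup.orderOf_coe]
  have h1 : orderOf z ∣ p := by
    have h0 := orderOf_dvd_natCard z
    rwa [E.cardZ] at h0
  rcases (Nat.dvd_prime (Fact.out : p.Prime)).1 h1 with h2 | h2
  · exact absurd (orderOf_eq_one_iff.1 h2) hz
  · exact h2

include E in
theorem DExtra.sum_kappa_mm [Fintype D.X] (hM : IsPModular p M) (χ : IrrCharacter G)
    {ξ₀ : IrrCharacter D.C} (h : D.PTriv ξ₀) {B' : Set (IrrCharacter G)}
    (hind : IsInducedBlock M D.C (blockOf M (ξ₀ : D.C → ℂ)) B') (hχ : χ ∉ B') (z : D.Z)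
    (hz : z ≠ 1) : ∑ κ : D.X, ((κ z : ℂˣ) : ℂ) * D.mm χ (D.zk ξ₀ κ) = 0 := by
  have hp1 : 1 < p := (Fact.out : p.Prime).one_lt
  have h1 := second_main_char' hM D.C (z : G) ⟨1, E.orderOf_Z z hz⟩ (D.hZC z.2)
    (fun c => D.hcent z z.2 c c.2) (E.hCz z hz) hind χ hχ 1
    (by rw [orderOf_one, Nat.dvd_one]; exact hp1.ne')
  rw [blockPart_eq_finsum, E.blockOf_eq_range hM h, finsum_mem_range (tw_injective h),
    finsum_eq_sum_of_fintype] at h1
  have h2 : ∀ κ : D.X, classInner (fun c : D.C => (χ : G → ℂ) ((z : G) * (c : G)))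
      (tw ξ₀ κ : D.C → ℂ) * (tw ξ₀ κ : D.C → ℂ) 1
      = (((κ z : ℂˣ) : ℂ) * D.mm χ (D.zk ξ₀ κ)) * (ξ₀ : D.C → ℂ) 1 := by
    intro κ
    rw [tw_coe, E.inner_shift χ ξ₀.2 h κ z, D.zk_apply_one]
  simp_rw [h2] at h1
  rw [← Finset.sum_mul] at h1
  exact (mul_eq_zero.1 h1).resolve_right (DExtra.irr_one_ne ξ₀.2)

include E in
/-- **Second main theorem**: the multiplicities are constant along blocks of `C` which do not
induce the block of `χ`. -/
theorem DExtra.mm_const_of_not_mem (hM : IsPModular p M) (χ : IrrCharacter G)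
    {ξ₀ : IrrCharacter D.C} (h : D.PTriv ξ₀) {B' : Set (IrrCharacter G)}
    (hind : IsInducedBlock M D.C (blockOf M (ξ₀ : D.C → ℂ)) B') (hχ : χ ∉ B') (κ : D.X) :
    D.mm χ (D.zk ξ₀ κ) = D.mm χ ξ₀ := by
  haveI : Finite D.Z := Nat.finite_of_card_ne_zero
    (by rw [E.cardZ]; exact (Fact.out : p.Prime).ne_zero)
  haveI : Fintype D.Z := Fintype.ofFinite _
  haveI : Finite D.X := finite_hom (Z_comm D)
  haveI : Fintype D.X := Fintype.ofFinite _
  have h1 := fourier_const (fun κ : D.X => D.mm χ (D.zk ξ₀ κ))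
    (fun z hz => E.sum_kappa_mm hM χ h hind hχ z hz)
  have h2 := h1 κ
  have h3 := h1 1
  rw [D.zk_one] at h3
  have hp0 : (Nat.card D.Z : ℂ) ≠ 0 := by
    rw [E.cardZ]; exact_mod_cast (Fact.out : p.Prime).ne_zero
  exact mul_left_cancel₀ hp0 (h2.trans h3.symm)

end second

end Cfsg.Agent.Lib.Helper25
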