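import Cfsg.Agent.Lib.Helper25.DefOneF
import Cfsg.Agent.Lib.Helper21.ExtFirstMain
import Cfsg.Agent.S0919
import Cfsg.Agent.S0928

/-!
# Blocks of defect one: the block `B` and the columns
-/

set_option autoImplicit false
set_option linter.unusedSectionVars false
set_option linter.style.haveILetI false
open Cfsg
open scoped ComplexConjugate

namespace Cfsg.Agent.Lib.Helper25

open Cfsg.Agent.Lib.Helper20 Cfsg.Agent.Lib.Helper32 Cfsg.Agent.Lib.Helper83
  Cfsg.Agent.Lib.Helper98.BL Cfsg.Agent.Lib.Helper81 Cfsg.Agent.Lib.Helper46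
  Cfsg.Agent.Lib.Helper21

universe u

variable {G : Type u} [Group G] {D : Data G} {p : ℕ} [Fact p.Prime] (E : DExtra D p)
  {M : Ideal AlgInt} [Fintype G] [Fintype D.C] [Fintype D.N]

include E in
theorem DExtra.C_le_normalizer_Z : D.C ≤ Subgroup.normalizer (D.Z : Set G) := by
  rw [← E.hNN]; exact Subgroup.le_normalizer

include E in
/-- **Extended first main theorem**: the multiplicities are constant along the blocks of `C`
which are not conjugate to the block of `θ`. -/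
theorem DExtra.mm_const_of_not_cj (hM : IsPModular p M) (B : Set (IrrCharacter G))
    (hB : IsPBlock M B) (hBP : IsDefectGroup p M B D.Z) (θ : IrrCharacter D.C)
    (hθP : D.PTriv θ) (hind : IsInducedBlock M D.C (blockOf M (θ : D.C → ℂ)) B)
    (χ : IrrCharacter G) (hχ : χ ∈ B) {ξ₀ : IrrCharacter D.C} (h : D.PTriv ξ₀)
    (hn : ¬ D.Cj θ ξ₀) (κ : D.X) : D.mm χ (D.zk ξ₀ κ) = D.mm χ ξ₀ := by
  have hPp : IsPGroup p D.Z := IsPGroup.of_card (n := 1) (by rw [E.cardZ, pow_one])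
  obtain ⟨B', hind'⟩ := Cfsg.Agent.S0919.result p M hM D.Z D.C hPp D.hZC E.hCZ
    E.C_le_normalizer_Z (blockOf M (ξ₀ : D.C → ℂ)) ⟨ξ₀, rfl⟩
  by_cases hχ' : χ ∈ B'
  · exfalso
    have hBB : B' = B := (isPBlock_eq_blockOf hM hind'.2.1 hχ').trans
      (isPBlock_eq_blockOf hM hB hχ).symm
    subst hBB
    have hK : (D.C.subgroupOf (Subgroup.normalizer (D.Z : Set G))).Normal := by
      rw [← E.hNN]; exact Subgroup.normal_in_normalizer
    obtain ⟨n, hnN, hconj⟩ := extended_first_main_conj_aux hM B' D.Z hBP D.C E.hCZ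
      E.C_le_normalizer_Z hK _ _ hind hind'
    obtain ⟨θ', hθ', hval⟩ := hconj θ (mem_blockOf_self hM θ)
    have hnN' : n⁻¹ ∈ D.N := by
      show n⁻¹ ∈ Subgroup.normalizer (D.C : Set G)
      rw [E.hNN]; exact inv_mem hnN
    have h1 : (θ' : D.C → ℂ) = (θ : D.C → ℂ) ∘ D.cj ⟨n⁻¹, hnN'⟩ := by
      funext c
      have hmem : n * (c : G) * n⁻¹ ∈ D.C := by
        have := (D.cj ⟨n⁻¹, hnN'⟩ c).2
        simpa [Data.cj] using this
      rw [hval c hmem]
      simp only [Function.comp_apply]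
      have h5 : (⟨n * (c : G) * n⁻¹, hmem⟩ : D.C) = D.cj ⟨n⁻¹, hnN'⟩ c := by
        apply Subtype.ext
        simp [Data.cj]
      rw [h5]
    have h2 : D.PTriv (θ' : D.C → ℂ) := by rw [h1]; exact E.pTriv_cj hθP _
    rw [E.blockOf_eq_range hM h] at hθ'
    obtain ⟨κ', hκ'⟩ := hθ'
    have h3 : κ' = 1 := eq_one_of_pTriv_tw h (by rw [hκ']; exact h2)
    rw [h3, tw_one] at hκ'
    exact hn ⟨⟨n⁻¹, hnN'⟩, by rw [hκ', h1]⟩
  · exact E.mm_const_of_not_mem hM χ h hind' hχ' κ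

theorem DExtra.xa_bijective [Finite D.X] (x : D.N) : Function.Bijective (E.xa x) := by
  apply Function.Injective.bijective_of_finite
  intro κ κ' h
  apply MonoidHom.ext
  intro z
  have := congrArg (fun f : D.X => f ((E.zc x).symm z)) h
  simpa [DExtra.xa_apply] using this

include E in
/-- transport along `N`-conjugation -/
theorem DExtra.mm_zk_cj {χ : G → ℂ} (hχ : IsClassFunction G χ) (θ : D.C → ℂ) (x : D.N)
    (κ : D.X) : D.mm χ (D.zk (θ ∘ D.cj x) (E.xa x κ)) = D.mm χ (D.zk θ κ) := by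
  rw [← E.zk_cj, D.mm_cj hχ]

include E in
theorem DExtra.sum_mm_cj [Fintype D.X] {χ : G → ℂ} (hχ : IsClassFunction G χ) (θ : D.C → ℂ)
    (x : D.N) : ∑ κ : D.X, D.mm χ (D.zk (θ ∘ D.cj x) κ) = ∑ κ : D.X, D.mm χ (D.zk θ κ) := by
  rw [← (E.xa_bijective x).sum_comp (fun κ => D.mm χ (D.zk (θ ∘ D.cj x) κ))]
  exact Finset.sum_congr rfl (fun κ _ => E.mm_zk_cj hχ θ x κ)

end Cfsg.Agent.Lib.Helper25
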