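import Cfsg.Agent.Lib.Helper25.DefOneG

/-!
# Blocks of defect one: support of the columns and degrees
-/

set_option autoImplicit false
set_option linter.unusedSectionVars false
set_option linter.style.haveILetI false
open Cfsg
open scoped ComplexConjugate

namespace Cfsg.Agent.Lib.Helper25

open Cfsg.Agent.Lib.Helper20 Cfsg.Agent.Lib.Helper32 Cfsg.Agent.Lib.Helper83
  Cfsg.Agent.Lib.Helper98.BL Cfsg.Agent.Lib.Helper81 Cfsg.Agent.Lib.Helper46
  Cfsg.Agent.Lib.Helper21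

universe u

variable {G : Type u} [Group G] {D : Data G} {p : ℕ} [Fact p.Prime] (E : DExtra D p)
  {M : Ideal AlgInt} [Fintype G] [Fintype D.C] [Fintype D.N] [Fintype D.X]
  [Fintype (IrrCharacter D.C)] [Fintype (IrrCharacter G)]

open Classical in
/-- summation over `Irr(C)` via `P`-trivial characters and twists -/
theorem sum_irr_pairs {S : Type*} [AddCommMonoid S] (Φ : IrrCharacter D.C → S) :
    ∑ ξ : IrrCharacter D.C, Φ ξ
      = ∑ ξ₀ ∈ Finset.univ.filter (fun ξ : IrrCharacter D.C => D.PTriv ξ),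
          ∑ κ : D.X, Φ (tw ξ₀ κ) := by
  rw [← Finset.sum_product']
  symm
  apply Finset.sum_bij (fun (a : IrrCharacter D.C × D.X) _ => tw a.1 a.2)
  · intro a _; exact Finset.mem_univ _
  · rintro ⟨ξ₁, κ₁⟩ h₁ ⟨ξ₂, κ₂⟩ h₂ h
    simp only [Finset.mem_product, Finset.mem_filter, Finset.mem_univ, true_and, and_true]
      at h₁ h₂
    simp only at h
    have h3 : ξ₂ = tw ξ₁ (κ₂⁻¹ * κ₁) := by
      have h0 : κ₂⁻¹ * κ₂ = 1 := by ext z; simp
      rw [← tw_tw, h, tw_tw, h0, tw_one]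
    have h4 : κ₂⁻¹ * κ₁ = 1 := eq_one_of_pTriv_tw h₁ (by rw [← h3]; exact h₂)
    rw [h4, tw_one] at h3
    have h5 : κ₁ = κ₂ := by
      apply MonoidHom.ext; intro z
      have h6 := congrArg (fun f : D.X => f z) h4
      simp only [MonoidHom.mul_apply, MonoidHom.inv_apply, MonoidHom.one_apply] at h6
      exact (inv_mul_eq_one.1 h6).symm
    rw [h3, h5]
  · intro ξ _
    obtain ⟨ζ₀, κ, h1, h2, h3, -⟩ := D.exists_zk ξ.2
    refine ⟨(⟨ζ₀, h1⟩, κ), ?_, ?_⟩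
    · simp only [Finset.mem_product, Finset.mem_filter, Finset.mem_univ, true_and, and_true]
      exact h2
    · exact Subtype.ext h3.symm
  · intro a _; rfl

theorem res_expand (χ : IrrCharacter G) (c : D.C) :
    (χ : G → ℂ) c = ∑ ξ : IrrCharacter D.C, D.mm χ ξ * (ξ : D.C → ℂ) c := by
  have hcl : IsClassFunction D.C (D.res χ) := by
    intro g h
    exact irr_classFunction χ (g : G) (h : G)
  have h1 := congrFun (eq_sum_classInner_smul hcl) c
  rw [Finset.sum_apply] at h1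
  exact h1

/-- the context -/
structure BCtx (D : Data G) (p : ℕ) (M : Ideal AlgInt) (B : Set (IrrCharacter G))
    (θ : IrrCharacter D.C) : Prop where
  E : DExtra D p
  hM : IsPModular p M
  hB : IsPBlock M B
  hBP : IsDefectGroup p M B D.Z
  hθP : D.PTriv θ
  hind : IsInducedBlock M D.C (blockOf M (θ : D.C → ℂ)) B

variable {B : Set (IrrCharacter G)} {θ : IrrCharacter D.C}

theorem kcol_one (θ : IrrCharacter D.C) (χ : IrrCharacter G) : kcol D θ 1 χ = 0 := by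
  have h := kcol_eq_mm D θ.2 1 χ
  rw [D.zk_one, sub_self] at h
  exact_mod_cast h

include E in
open Classical in
theorem DExtra.kcol_gram (θ : IrrCharacter D.C) (hθP : D.PTriv θ) (e : ℕ)
    (he : Nat.card {x : D.N // (θ : D.C → ℂ) ∘ D.cj x = θ} = e * Nat.card D.C) {κ κ' : D.X}
    (hκ : κ ≠ 1) (hκ' : κ' ≠ 1) :
    ∑ χ : IrrCharacter G, kcol D θ κ χ * kcol D θ κ' χ
      = (e : ℤ) + if D.Cj (D.zk θ κ) (D.zk θ κ') then 1 else 0 := by
  have h := zcomb_inner (kcol D θ κ) (kcol D θ κ')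
  rw [zcomb_kcol D θ.2, zcomb_kcol D θ.2, E.gram_ind θ.2 hθP e he hκ hκ'] at h
  split_ifs at h ⊢ <;> exact_mod_cast h.symm

theorem BCtx.mem_of_kcol_ne (h : BCtx D p M B θ) (κ : D.X) (χ : IrrCharacter G)
    (hne : kcol D θ κ χ ≠ 0) : χ ∈ B := by
  by_contra hχ
  have h1 := h.E.mm_const_of_not_mem h.hM χ h.hθP h.hind hχ κ
  have h2 := kcol_eq_mm D θ.2 κ χ
  rw [h1, sub_self] at h2
  exact hne (by exact_mod_cast h2)

theorem BCtx.mm_const (h : BCtx D p M B θ) {χ : IrrCharacter G} (hχ : χ ∈ B)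
    (hk : ∀ κ, kcol D θ κ χ = 0) {ξ₀ : IrrCharacter D.C} (hξ : D.PTriv ξ₀) (κ : D.X) :
    D.mm χ (D.zk ξ₀ κ) = D.mm χ ξ₀ := by
  have hcl := irr_classFunction χ
  by_cases hc : D.Cj θ ξ₀
  · obtain ⟨x, hx⟩ := hc
    obtain ⟨κ', rfl⟩ := (h.E.xa_bijective x).2 κ
    rw [← hx, h.E.mm_zk_cj hcl, D.mm_cj hcl]
    have h2 := kcol_eq_mm D θ.2 κ' χ
    rw [hk κ'] at h2
    have h3 : D.mm χ θ - D.mm χ (D.zk θ κ') = 0 := by exact_mod_cast h2.symm
    exact (sub_eq_zero.1 h3).symm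
  · exact h.E.mm_const_of_not_cj h.hM B h.hB h.hBP θ h.hθP h.hind χ hχ hξ hc κ

theorem BCtx.vanish (h : BCtx D p M B θ) {χ : IrrCharacter G} (hχ : χ ∈ B)
    (hk : ∀ κ, kcol D θ κ χ = 0) (z : D.Z) (hz : z ≠ 1) : (χ : G → ℂ) z = 0 := by
  classical
  haveI : Finite D.Z := Nat.finite_of_card_ne_zero
    (by rw [h.E.cardZ]; exact (Fact.out : p.Prime).ne_zero)
  have h1 := res_expand χ (D.inZ z)
  rw [sum_irr_pairs] at h1
  have h2 : ((D.inZ z : D.C) : G) = z := rfl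
  rw [h2] at h1
  rw [h1]
  apply Finset.sum_eq_zero
  intro ξ₀ hξ₀
  have hξ : D.PTriv ξ₀ := (Finset.mem_filter.1 hξ₀).2
  have h3 : ∀ κ : D.X, D.mm χ (tw ξ₀ κ) * (tw ξ₀ κ : D.C → ℂ) (D.inZ z)
      = (D.mm χ ξ₀ * (ξ₀ : D.C → ℂ) 1) * ((κ z : ℂˣ) : ℂ) := by
    intro κ
    rw [tw_coe, h.mm_const hχ hk hξ κ, D.zk_inZ hξ κ z]
    ring
  simp_rw [h3]
  rw [← Finset.mul_sum, sum_hom_dual (Z_comm D) z, if_neg hz, mul_zero]

theorem BCtx.exists_kcol_ne (h : BCtx D p M B θ) (e : ℕ)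
    (he : Nat.card {x : D.N // (θ : D.C → ℂ) ∘ D.cj x = θ} = e * Nat.card D.C)
    {χ : IrrCharacter G} (hχ : χ ∈ B) : ∃ κ, κ ≠ 1 ∧ kcol D θ κ χ ≠ 0 := by
  classical
  by_contra hcon
  push Not at hcon
  have hk : ∀ κ, kcol D θ κ χ = 0 := by
    intro κ
    by_cases h1 : κ = 1
    · rw [h1, kcol_one]
    · exact hcon κ h1
  haveI : Finite D.Z := Nat.finite_of_card_ne_zero
    (by rw [h.E.cardZ]; exact (Fact.out : p.Prime).ne_zero)
  have hp1 : 1 < p := (Fact.out : p.Prime).one_lt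
  have hvan : ∀ g : G, orderOf g = p → (χ : G → ℂ) g = 0 := by
    intro g hg
    obtain ⟨x, hx⟩ := h.E.hsyl g hg
    rw [← irr_classFunction χ g x]
    apply h.vanish hχ hk ⟨_, hx⟩
    intro h1
    have h2 : x * g * x⁻¹ = 1 := congrArg Subtype.val h1
    have h3 : g = 1 := by
      have : g = x⁻¹ * (x * g * x⁻¹) * x := by group
      rw [this, h2]; group
    rw [h3, orderOf_one] at hg
    omega
  have h0 := Cfsg.Agent.S0928.result p χ hvan
  have h1 := blockOf_eq_singleton_of_defect_zero h.hM χ h0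
  rw [← isPBlock_eq_blockOf h.hM h.hB hχ] at h1
  obtain ⟨y₀, hy₀⟩ : ∃ y₀ : D.Z, y₀ ≠ 1 := by
    haveI : Nontrivial D.Z := by
      rw [← Finite.one_lt_card_iff_nontrivial, h.E.cardZ]; exact hp1
    exact exists_ne 1
  obtain ⟨κ₀, hκ₀'⟩ := exists_hom_ne_one (Z_comm D) hy₀
  have hκ₀ : κ₀ ≠ 1 := by rintro rfl; exact hκ₀' rfl
  have hg := h.E.kcol_gram θ h.hθP e he hκ₀ hκ₀
  rw [if_pos (Data.Cj.refl _ _)] at hg
  have h2 : ∑ χ' : IrrCharacter G, kcol D θ κ₀ χ' * kcol D θ κ₀ χ' = 0 := by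
    apply Finset.sum_eq_zero
    intro χ' _
    by_cases h3 : kcol D θ κ₀ χ' = 0
    · rw [h3, mul_zero]
    · have h4 := h1 (h.mem_of_kcol_ne κ₀ χ' h3)
      rw [Set.mem_singleton_iff] at h4
      rw [h4, hk κ₀, mul_zero]
  rw [h2] at hg
  have : (0 : ℤ) ≤ e := Int.natCast_nonneg e
  omega

end Cfsg.Agent.Lib.Helper25
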