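import Cfsg.Agent.Lib.Helper25.DefOneH

/-!
# Blocks of defect one: degrees modulo `p`
-/

set_option autoImplicit false
set_option linter.unusedSectionVars false
set_option linter.style.haveILetI false
open Cfsg
open scoped ComplexConjugate

namespace Cfsg.Agent.Lib.Helper25

open Cfsg.Agent.Lib.Helper20 Cfsg.Agent.Lib.Helper32 Cfsg.Agent.Lib.Helper83
  Cfsg.Agent.Lib.Helper98.BL Cfsg.Agent.Lib.Helper81 Cfsg.Agent.Lib.Helper46
  Cfsg.Agent.Lib.Helper21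

universe u

variable {G : Type u} [Group G] {D : Data G} {p : ℕ} [Fact p.Prime] (E : DExtra D p)
  {M : Ideal AlgInt} [Fintype G] [Fintype D.C] [Fintype D.N] [Fintype D.X]
  [Fintype (IrrCharacter D.C)] [Fintype (IrrCharacter G)]

/-- fibres of `x ↦ θ ∘ cj x` are cosets of the stabilizer -/
theorem card_fibre_stab (θ ξ : D.C → ℂ) (h : D.Cj θ ξ) :
    Nat.card {x : D.N // θ ∘ D.cj x = ξ} = Nat.card {x : D.N // θ ∘ D.cj x = θ} := by
  obtain ⟨x₀, hx₀⟩ := h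
  symm
  apply Nat.card_congr
  apply Equiv.subtypeEquiv (Equiv.mulLeft x₀)
  intro s
  simp only [Equiv.coe_mulLeft]
  rw [D.comp_cj_mul, ← hx₀]
  constructor
  · intro h1; rw [h1]
  · intro h1
    funext c
    have h2 := congrFun h1 ((D.cj x₀).symm c)
    simpa using h2

open Classical in
/-- orbit-stabilizer -/
theorem card_orbit (θ : IrrCharacter D.C) :
    Nat.card {ξ : IrrCharacter D.C // D.Cj θ ξ}
      * Nat.card {x : D.N // (θ : D.C → ℂ) ∘ D.cj x = θ} = Nat.card D.N := by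
  have h1 : Nat.card D.N = ∑ ξ : IrrCharacter D.C,
      Nat.card {x : D.N // (θ : D.C → ℂ) ∘ D.cj x = ξ} := by
    rw [Nat.card_eq_fintype_card, ← Finset.card_univ,
      Finset.card_eq_sum_card_fiberwise
        (f := fun x : D.N => (⟨(θ : D.C → ℂ) ∘ D.cj x, D.isIrr_comp_cj θ.2 x⟩ : IrrCharacter D.C))
        (t := Finset.univ) (fun x _ => Finset.mem_coe.2 (Finset.mem_univ _))]
    apply Finset.sum_congr rfl
    intro ξ _
    rw [Nat.card_eq_fintype_card, Fintype.card_subtype]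
    congr 1
    ext x
    simp only [Finset.mem_filter, Finset.mem_univ, true_and]
    exact ⟨fun h => congrArg Subtype.val h, fun h => Subtype.ext h⟩
  have h2 : ∀ ξ : IrrCharacter D.C, Nat.card {x : D.N // (θ : D.C → ℂ) ∘ D.cj x = ξ}
      = if D.Cj θ ξ then Nat.card {x : D.N // (θ : D.C → ℂ) ∘ D.cj x = θ} else 0 := by
    intro ξ
    split_ifs with h
    · exact card_fibre_stab _ _ h
    · haveI : IsEmpty {x : D.N // (θ : D.C → ℂ) ∘ D.cj x = ξ} := ⟨fun x => h ⟨x.1, x.2⟩⟩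
      exact Nat.card_of_isEmpty
  rw [h1, Finset.sum_congr rfl (fun ξ _ => h2 ξ)]
  rw [← Finset.sum_filter, Finset.sum_const, smul_eq_mul, Nat.card_eq_fintype_card,
    Fintype.card_subtype]

variable {B : Set (IrrCharacter G)} {θ : IrrCharacter D.C}

open Classical in
/-- the degree of a member of `B` modulo `p` -/
theorem BCtx.degree (h : BCtx D p M B θ) {χ : IrrCharacter G} (hχ : χ ∈ B) :
    ∃ w : ℤ, (charDegree (χ : G → ℂ) : ℤ) = p * w
      - (Nat.card {ξ : IrrCharacter D.C // D.Cj θ ξ} : ℤ) * (charDegree (θ : D.C → ℂ) : ℤ)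
        * ∑ κ : D.X, kcol D θ κ χ := by
  haveI : Finite D.Z := Nat.finite_of_card_ne_zero
    (by rw [h.E.cardZ]; exact (Fact.out : p.Prime).ne_zero)
  have hcl := irr_classFunction χ
  have hcardX : Fintype.card D.X = p := by
    rw [← Nat.card_eq_fintype_card, card_hom (Z_comm D), h.E.cardZ]
  obtain ⟨S, hS⟩ : ∃ S : ℤ, S = ∑ κ : D.X, kcol D θ κ χ := ⟨_, rfl⟩
  have hSθ : ∑ κ : D.X, D.mm χ (D.zk θ κ) = (p : ℂ) * D.mm χ θ - (S : ℂ) := by
    have h1 : ∀ κ : D.X, D.mm χ (D.zk θ κ) = D.mm χ θ - (kcol D θ κ χ : ℂ) := by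
      intro κ; rw [kcol_eq_mm D θ.2 κ χ]; ring
    simp_rw [h1]
    rw [Finset.sum_sub_distrib, Finset.sum_const, Finset.card_univ, hcardX, hS]
    push_cast
    simp
  have hrow : ∀ ξ₀ : IrrCharacter D.C, D.PTriv ξ₀ → ∑ κ : D.X, D.mm χ (tw ξ₀ κ)
      = (p : ℂ) * D.mm χ ξ₀ - if D.Cj θ ξ₀ then (S : ℂ) else 0 := by
    intro ξ₀ hξ
    split_ifs with hc
    · obtain ⟨x, hx⟩ := hc
      simp_rw [tw_coe]
      rw [← hx, h.E.sum_mm_cj hcl, D.mm_cj hcl, hSθ]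
    · have h1 : ∀ κ : D.X, D.mm χ (tw ξ₀ κ) = D.mm χ ξ₀ := fun κ =>
        h.E.mm_const_of_not_cj h.hM B h.hB h.hBP θ h.hθP h.hind χ hχ hξ hc κ
      simp_rw [h1]
      rw [Finset.sum_const, Finset.card_univ, hcardX]
      simp
  choose n hn using fun ξ : IrrCharacter D.C =>
    D.mm_nat (isCharacter_of_isIrrCharacter χ.2) ξ.2
  have h1 := res_expand (D := D) χ 1
  rw [sum_irr_pairs] at h1
  have h2 : ∀ ξ₀ ∈ Finset.univ.filter (fun ξ : IrrCharacter D.C => D.PTriv ξ),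
      ∑ κ : D.X, D.mm χ (tw ξ₀ κ) * (tw ξ₀ κ : D.C → ℂ) 1
      = (p : ℂ) * ((n ξ₀ * charDegree (ξ₀ : D.C → ℂ) : ℕ) : ℂ)
        - (if D.Cj θ ξ₀ then (S : ℂ) * (charDegree (θ : D.C → ℂ) : ℂ) else 0) := by
    intro ξ₀ hξ₀
    have hξ : D.PTriv ξ₀ := (Finset.mem_filter.1 hξ₀).2
    have h3 : ∀ κ : D.X, D.mm χ (tw ξ₀ κ) * (tw ξ₀ κ : D.C → ℂ) 1
        = D.mm χ (tw ξ₀ κ) * (ξ₀ : D.C → ℂ) 1 := by
      intro κ; rw [tw_coe, D.zk_apply_one]
    simp_rw [h3]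
    rw [← Finset.sum_mul, hrow ξ₀ hξ, hn ξ₀,
      Cfsg.Agent.Lib.Helper82.isChar_one_eq (isCharacter_of_isIrrCharacter ξ₀.2)]
    split_ifs with hc
    · obtain ⟨x, hx⟩ := hc
      have h4 : charDegree (ξ₀ : D.C → ℂ) = charDegree (θ : D.C → ℂ) := by
        unfold charDegree
        rw [← hx]
        simp
      rw [h4]
      push_cast
      ring
    · push_cast
      ring
  rw [Finset.sum_congr rfl h2, Finset.sum_sub_distrib, ← Finset.mul_sum, ← Nat.cast_sum] at h1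
  have h5 : ∑ ξ₀ ∈ Finset.univ.filter (fun ξ : IrrCharacter D.C => D.PTriv ξ),
      (if D.Cj θ ξ₀ then (S : ℂ) * (charDegree (θ : D.C → ℂ) : ℂ) else 0)
      = (Nat.card {ξ : IrrCharacter D.C // D.Cj θ ξ} : ℂ)
        * ((S : ℂ) * (charDegree (θ : D.C → ℂ) : ℂ)) := by
    rw [← Finset.sum_filter, Finset.sum_const, Finset.filter_filter, Nat.card_eq_fintype_card,
      Fintype.card_subtype, nsmul_eq_mul]
    congr 3
    ext ξ
    simp only [Finset.mem_filter, Finset.mem_univ, true_and]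
    constructor
    · exact fun hh => hh.2
    · rintro ⟨x, hx⟩
      exact ⟨by rw [← hx]; exact h.E.pTriv_cj h.hθP x, ⟨x, hx⟩⟩
  rw [h5] at h1
  have h6 : ((1 : D.C) : G) = 1 := rfl
  rw [h6, Cfsg.Agent.Lib.Helper82.isChar_one_eq (isCharacter_of_isIrrCharacter χ.2)] at h1
  refine ⟨((∑ ξ₀ ∈ Finset.univ.filter (fun ξ : IrrCharacter D.C => D.PTriv ξ),
    n ξ₀ * charDegree (ξ₀ : D.C → ℂ) : ℕ) : ℤ), ?_⟩
  rw [← hS]
  have h7 : ((charDegree (χ : G → ℂ) : ℤ) : ℂ) = (((p : ℤ) * ((∑ ξ₀ ∈ Finset.univ.filter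
      (fun ξ : IrrCharacter D.C => D.PTriv ξ), n ξ₀ * charDegree (ξ₀ : D.C → ℂ) : ℕ) : ℤ)
      - (Nat.card {ξ : IrrCharacter D.C // D.Cj θ ξ} : ℤ) * (charDegree (θ : D.C → ℂ) : ℤ) * S
        : ℤ) : ℂ) := by
    push_cast
    push_cast at h1
    rw [h1]
    ring
  exact_mod_cast h7

end Cfsg.Agent.Lib.Helper25
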