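import Cfsg.Agent.Lib.Helper25.DefOneI

/-!
# Blocks of defect one: the main theorem in terms of the data
-/

set_option autoImplicit false
set_option linter.unusedSectionVars false
set_option linter.style.haveILetI false
open Cfsg
open scoped ComplexConjugate

namespace Cfsg.Agent.Lib.Helper25

open Cfsg.Agent.Lib.Helper20 Cfsg.Agent.Lib.Helper32 Cfsg.Agent.Lib.Helper83
  Cfsg.Agent.Lib.Helper98.BL Cfsg.Agent.Lib.Helper81 Cfsg.Agent.Lib.Helper46
  Cfsg.Agent.Lib.Helper21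

universe u

variable {G : Type u} [Group G] {D : Data G} {p : ℕ} [Fact p.Prime]
  {M : Ideal AlgInt} [Fintype G] [Fintype D.C] [Fintype D.N] [Fintype D.X]
  [Fintype (IrrCharacter D.C)] [Fintype (IrrCharacter G)]
  {B : Set (IrrCharacter G)} {θ : IrrCharacter D.C}

theorem cj_trans {ζ ζ' ζ'' : D.C → ℂ} (h : D.Cj ζ ζ') (h' : D.Cj ζ' ζ'') : D.Cj ζ ζ'' := by
  obtain ⟨x, hx⟩ := h
  obtain ⟨y, hy⟩ := h'
  exact ⟨y * x, by rw [D.comp_cj_mul, hx, hy]⟩

theorem sum_ite_card' {A : Type*} [Fintype A] (Q : A → Prop) [DecidablePred Q] (c : ℤ) :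
    ∑ x : A, (if Q x then c else 0) = (Nat.card {x : A // Q x} : ℤ) * c := by
  rw [← Finset.sum_filter, Finset.sum_const, Nat.card_eq_fintype_card, Fintype.card_subtype]
  simp

/-- the relation on the nontrivial linear characters -/
def relX (D : Data G) (θ : IrrCharacter D.C) (κ κ' : {κ : D.X // κ ≠ 1}) : Prop :=
  D.Cj (D.zk θ κ.1) (D.zk θ κ'.1)

open Classical in
theorem BCtx.cshape (h : BCtx D p M B θ) (e : ℕ)
    (he : Nat.card {x : D.N // (θ : D.C → ℂ) ∘ D.cj x = θ} = e * Nat.card D.C)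
    (hcrux : e ≤ blockRank p B) :
    ∃ (X Y : Set (IrrCharacter G)) (a : IrrCharacter G → ℤ) (ε : ℤ),
      CShape p e (relX D θ) (fun κ : {κ : D.X // κ ≠ 1} => kcol D θ κ.1) B X Y a ε := by
  haveI : Finite D.Z := Nat.finite_of_card_ne_zero
    (by rw [h.E.cardZ]; exact (Fact.out : p.Prime).ne_zero)
  have hcardX : Fintype.card D.X = p := by
    rw [← Nat.card_eq_fintype_card, card_hom (Z_comm D), h.E.cardZ]
  apply defone_core p e (relX D θ)
  · exact ⟨fun κ => Data.Cj.refl _ _, fun h => h.symm, fun h h' => cj_trans h h'⟩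
  · rw [Fintype.card_subtype, Finset.filter_ne', Finset.card_erase_of_mem (Finset.mem_univ _),
      Finset.card_univ, hcardX]
  · intro ξ
    rw [← h.E.card_class θ.2 h.hθP e he ξ.2]
    apply Nat.card_congr
    exact Equiv.subtypeSubtypeEquivSubtype (p := fun κ : D.X => κ ≠ 1)
      (q := fun κ' : D.X => D.Cj (D.zk θ ξ.1) (D.zk θ κ'))
      (by
        rintro κ' hc rfl
        rw [D.zk_one] at hc
        exact h.E.not_cj_zk_self θ.2 h.hθP ξ.2 hc)
  · intro ξ ξ' hr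
    funext χ
    have h1 := kcol_eq_mm D θ.2 ξ.1 χ
    have h2 := kcol_eq_mm D θ.2 ξ'.1 χ
    rw [D.mm_eq_of_cj (irr_classFunction χ) hr, ← h1] at h2
    exact_mod_cast h2.symm
  · intro ξ ξ'
    exact h.E.kcol_gram θ h.hθP e he ξ.2 ξ'.2
  · intro ξ g hg
    rw [zcomb_kcol D θ.2]
    exact h.E.ind_vanish θ ξ.1 hg
  · exact fun ξ χ hne => h.mem_of_kcol_ne ξ.1 χ hne
  · intro χ hχ
    obtain ⟨κ, hκ, hne⟩ := h.exists_kcol_ne e he hχ
    exact ⟨⟨κ, hκ⟩, hne⟩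
  · exact hcrux

open Classical in
theorem sum_kcol (θ : IrrCharacter D.C) (χ : IrrCharacter G) :
    ∑ κ : D.X, kcol D θ κ χ = ∑ ξ : {κ : D.X // κ ≠ 1}, kcol D θ ξ.1 χ := by
  rw [Fintype.sum_eq_add_sum_subtype_ne (fun κ : D.X => kcol D θ κ χ) 1, kcol_one, zero_add]

open Classical in
/-- **Blocks of defect one**, in terms of the data, given `e ≤ l(B)`. -/
theorem BCtx.main (h : BCtx D p M B θ) (e f : ℕ)
    (he : Nat.card {x : D.N // (θ : D.C → ℂ) ∘ D.cj x = θ} = e * Nat.card D.C)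
    (hf : Nat.card D.N = f * Nat.card D.C) (hcrux : e ≤ blockRank p B) :
    e ∣ p - 1 ∧ Nat.card B = e + (p - 1) / e ∧ ∃ X Y : Set (IrrCharacter G), B = X ∪ Y ∧
      Disjoint X Y ∧ Nat.card X = e ∧ Nat.card Y = (p - 1) / e ∧
      (∀ χ ∈ X, (charDegree (χ : G → ℂ) : ℤ)
          ≡ ((f / e * charDegree (θ : D.C → ℂ) : ℕ) : ℤ) [ZMOD p] ∨
        (charDegree (χ : G → ℂ) : ℤ)
          ≡ -((f / e * charDegree (θ : D.C → ℂ) : ℕ) : ℤ) [ZMOD p]) ∧
      (∃ ε : ℤ, (ε = 1 ∨ ε = -1) ∧ ∀ ψ ∈ Y, (charDegree (ψ : G → ℂ) : ℤ)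
          ≡ ε * ((f * charDegree (θ : D.C → ℂ) : ℕ) : ℤ) [ZMOD p]) ∧
      ∀ ψ ∈ Y, ∀ ψ' ∈ Y, ∀ g : G, ¬ p ∣ orderOf g → (ψ : G → ℂ) g = (ψ' : G → ℂ) g := by
  haveI : Finite D.Z := Nat.finite_of_card_ne_zero
    (by rw [h.E.cardZ]; exact (Fact.out : p.Prime).ne_zero)
  have hp1 : 1 < p := (Fact.out : p.Prime).one_lt
  have hcardX : Fintype.card D.X = p := by
    rw [← Nat.card_eq_fintype_card, card_hom (Z_comm D), h.E.cardZ]
  have hcardΞ : Fintype.card {κ : D.X // κ ≠ 1} = p - 1 := by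
    rw [Fintype.card_subtype, Finset.filter_ne', Finset.card_erase_of_mem (Finset.mem_univ _),
      Finset.card_univ, hcardX]
  obtain ⟨X, Y, a, ε, hs⟩ := h.cshape e he hcrux
  obtain ⟨o, ho⟩ : ∃ o, o = Nat.card {ξ : IrrCharacter D.C // D.Cj θ ξ} := ⟨_, rfl⟩
  have hC0 : 0 < Nat.card D.C := Nat.card_pos
  have hoe : o * e = f := by
    have h1 := card_orbit (D := D) θ
    rw [← ho, he, hf, ← mul_assoc] at h1
    exact Nat.eq_of_mul_eq_mul_right hC0 h1
  have he0 : 0 < e := by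
    rcases Nat.eq_zero_or_pos e with h0 | h0
    · have h1 := hs.dvd
      rw [h0, zero_dvd_iff] at h1
      omega
    · exact h0
  have hfe : f / e = o := by rw [← hoe, Nat.mul_div_cancel _ he0]
  have hpc : ((p - 1 : ℕ) : ℤ) = (p : ℤ) - 1 := by
    rw [Nat.cast_sub hp1.le]; simp
  refine ⟨hs.dvd, ?_, X, Y, hs.union, hs.disj, hs.cardX, hs.cardY, ?_, ⟨ε, hs.eps, ?_⟩, hs.agree⟩
  · rw [hs.union, Nat.card_coe_set_eq, Set.ncard_union_eq hs.disj (Set.toFinite _)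
      (Set.toFinite _), ← Nat.card_coe_set_eq, ← Nat.card_coe_set_eq, hs.cardX, hs.cardY]
  · intro χ hχ
    have hχB : χ ∈ B := by rw [hs.union]; exact Or.inl hχ
    obtain ⟨w, hw⟩ := h.degree hχB
    have h1 : ∑ κ : D.X, kcol D θ κ χ = ((p : ℤ) - 1) * a χ := by
      rw [sum_kcol, Finset.sum_congr rfl (fun ξ _ => hs.colX χ hχ ξ), Finset.sum_const,
        Finset.card_univ, hcardΞ, nsmul_eq_mul, hpc]
    rw [h1, ← ho] at hw
    rw [hfe]
    rcases hs.sign χ hχ with ha | ha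
    · left
      rw [hw, ha]
      apply Int.ModEq.symm
      rw [Int.modEq_iff_dvd]
      exact ⟨w - o * charDegree (θ : D.C → ℂ), by push_cast; ring⟩
    · right
      rw [hw, ha]
      apply Int.ModEq.symm
      rw [Int.modEq_iff_dvd]
      exact ⟨w + o * charDegree (θ : D.C → ℂ), by push_cast; ring⟩
  · intro ψ hψ
    have hψB : ψ ∈ B := by rw [hs.union]; exact Or.inr hψ
    obtain ⟨w, hw⟩ := h.degree hψB
    obtain ⟨ξ₀, hξ₀⟩ := hs.colY ψ hψ
    have hclass : Nat.card {ξ' : {κ : D.X // κ ≠ 1} // relX D θ ξ₀ ξ'} = e := by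
      rw [← h.E.card_class θ.2 h.hθP e he ξ₀.2]
      apply Nat.card_congr
      exact Equiv.subtypeSubtypeEquivSubtype (p := fun κ : D.X => κ ≠ 1)
        (q := fun κ' : D.X => D.Cj (D.zk θ ξ₀.1) (D.zk θ κ'))
        (by
          rintro κ' hc rfl
          rw [D.zk_one] at hc
          exact h.E.not_cj_zk_self θ.2 h.hθP ξ₀.2 hc)
    have h1 : ∑ κ : D.X, kcol D θ κ ψ = (e : ℤ) * (-ε) := by
      rw [sum_kcol, Finset.sum_congr rfl (fun ξ _ => hξ₀ ξ), sum_ite_card', hclass]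
    rw [h1, ← ho] at hw
    rw [hw, ← hoe]
    apply Int.ModEq.symm
    rw [Int.modEq_iff_dvd]
    exact ⟨w, by push_cast; ring⟩

end Cfsg.Agent.Lib.Helper25
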