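import Cfsg.Agent.Lib.Helper25.DefOneJ
import Cfsg.Agent.Lib.Helper98.BL.Setup
import Cfsg.Agent.Lib.Helper11.SylowAux

/-!
# Blocks of defect one: the data attached to a Sylow subgroup of prime order
-/

set_option autoImplicit false
set_option linter.unusedSectionVars false
set_option linter.style.haveILetI false
open Cfsg
open scoped ComplexConjugate

namespace Cfsg.Agent.Lib.Helper25

open Cfsg.Agent.Lib.Helper98.BL

universe u

variable {G : Type u} [Group G] [Finite G] {p : ℕ} [Fact p.Prime]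

theorem mem_zpowers_of_card_prime' (P : Subgroup G) (hP : Nat.card P = p)
    {y : G} (hy : y ∈ P) (hy1 : y ≠ 1) {x : G} (hx : x ∈ P) : x ∈ Subgroup.zpowers y := by
  have h1 : Subgroup.zpowers (⟨y, hy⟩ : P) = ⊤ :=
    zpowers_eq_top_of_prime_card hP (fun h => hy1 (congrArg Subtype.val h))
  have h2 : (⟨x, hx⟩ : P) ∈ Subgroup.zpowers (⟨y, hy⟩ : P) := by rw [h1]; trivial
  obtain ⟨k, hk⟩ := h2
  exact ⟨k, by simpa using congrArg Subtype.val hk⟩

theorem centralizer_singleton_of_card_prime' (P : Subgroup G)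
    (hP : Nat.card P = p) {y : G} (hy : y ∈ P) (hy1 : y ≠ 1) :
    Subgroup.centralizer ({y} : Set G) = Subgroup.centralizer (P : Set G) := by
  apply le_antisymm
  · intro g hg
    rw [Subgroup.mem_centralizer_singleton_iff] at hg
    rw [Subgroup.mem_centralizer_iff]
    intro x hx
    obtain ⟨k, rfl⟩ := mem_zpowers_of_card_prime' P hP hy hy1 hx
    exact ((Commute.zpow_right (show Commute g y from hg) k).eq).symm
  · exact Subgroup.centralizer_le (by simpa using hy)

theorem dextra_of_data (P : Sylow p G) (hP : Nat.card (P : Subgroup G) = p) (D : Data G)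
    (hC : D.C = Subgroup.centralizer ((P : Subgroup G) : Set G)) (hZ : D.Z = (P : Subgroup G)) :
    DExtra D p := by
  have hp : p.Prime := Fact.out
  have hcardZ : Nat.card D.Z = p := by rw [hZ]; exact hP
  -- the order of `C`
  have hG2 : ¬ p ^ 2 ∣ Nat.card G := by
    intro h2
    have h3 := (hp.pow_dvd_iff_le_factorization Nat.card_pos.ne').1 h2
    have h4 := P.card_eq_multiplicity
    have h4' : Nat.card (P : Subgroup G) = p ^ (Nat.card G).factorization p := h4
    rw [hP] at h4'
    have h5 : p ^ 1 = p ^ (Nat.card G).factorization p := by rw [pow_one]; exact h4'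
    have h6 := Nat.pow_right_injective hp.two_le h5
    omega
  obtain ⟨m, hm⟩ : p ∣ Nat.card D.C := by
    rw [← hcardZ]; exact Subgroup.card_dvd_of_le D.hZC
  have hpm : ¬ p ∣ m := by
    rintro ⟨m', rfl⟩
    apply hG2
    have h1 : Nat.card D.C ∣ Nat.card G := Subgroup.card_subgroup_dvd_card _
    rw [hm] at h1
    exact Dvd.dvd.trans ⟨m', by ring⟩ h1
  have hker : Nat.card D.r.ker = m := by
    have h1 := Subgroup.card_mul_index D.r.ker
    have hsurj : Function.Surjective D.r := fun z => ⟨D.inZ z, D.r_inZ z⟩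
    rw [Subgroup.index_ker, MonoidHom.range_eq_top.2 hsurj, Subgroup.card_top, hcardZ, hm,
      mul_comm] at h1
    exact Nat.eq_of_mul_eq_mul_left hp.pos h1
  have hreg : ∀ c : D.C, D.r c = 1 ↔ ¬ p ∣ orderOf c := by
    intro c
    constructor
    · intro hc hdvd
      have hc' : c ∈ D.r.ker := MonoidHom.mem_ker.2 hc
      have h1 : orderOf (⟨c, hc'⟩ : D.r.ker) ∣ Nat.card D.r.ker := orderOf_dvd_natCard _
      rw [Subgroup.orderOf_mk, hker] at h1
      exact hpm (hdvd.trans h1)
    · intro hc
      have h1 : orderOf (D.r c) ∣ orderOf c := orderOf_map_dvd D.r c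
      have h2 : orderOf (D.r c) ∣ p := by
        have := orderOf_dvd_natCard (D.r c)
        rwa [hcardZ] at this
      rcases (Nat.dvd_prime hp).1 h2 with h3 | h3
      · exact orderOf_eq_one_iff.1 h3
      · exact absurd (h3 ▸ h1) hc
  have hkey : ∀ c : D.C, c ^ p = 1 → (c : G) ∈ D.Z := by
    intro c hc
    obtain ⟨k, hk⟩ : ∃ k : D.C, k = (D.inZ (D.r c))⁻¹ * c := ⟨_, rfl⟩
    have hk1 : D.r k = 1 := by rw [hk, map_mul, map_inv, D.r_inZ]; simp
    have hcomm : Commute (D.inZ (D.r c))⁻¹ c :=
      (Subgroup.mem_center_iff.1 (inv_mem (D.inZ_mem_center (D.r c))) c).symm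
    have hz : (D.inZ (D.r c)) ^ p = 1 := by
      have h1 : (D.r c) ^ p = 1 := by rw [← hcardZ]; exact pow_card_eq_one'
      apply Subtype.ext
      have := congrArg Subtype.val h1
      simpa [Data.inZ] using this
    have hk2 : k ^ p = 1 := by
      rw [hk, hcomm.mul_pow, inv_pow, hz, hc]; simp
    have hk3 : orderOf k ∣ p := orderOf_dvd_of_pow_eq_one hk2
    have hk4 : k = 1 := by
      rcases (Nat.dvd_prime hp).1 hk3 with h3 | h3
      · exact orderOf_eq_one_iff.1 h3
      · exact absurd (h3 ▸ dvd_refl _) ((hreg k).1 hk1)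
    have hc' : c = D.inZ (D.r c) := by
      rw [hk4] at hk
      have : D.inZ (D.r c) * 1 = D.inZ (D.r c) * ((D.inZ (D.r c))⁻¹ * c) := by rw [← hk]
      simpa using this.symm
    rw [hc']
    exact (D.r c).2
  have hNZ : ∀ (x : D.N) (z : D.Z), (x : G)⁻¹ * z * x ∈ D.Z := by
    intro x z
    have h1 : (D.cj x (D.inZ z)) ^ p = 1 := by
      rw [← map_pow]
      have h2 : (D.inZ z) ^ p = 1 := by
        have h1 : z ^ p = 1 := by rw [← hcardZ]; exact pow_card_eq_one'
        apply Subtype.ext
        have := congrArg Subtype.val h1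
        simpa [Data.inZ] using this
      rw [h2, map_one]
    exact hkey _ h1
  refine ⟨hcardZ, hNZ, hreg, ⟨m, hm, hpm⟩, ?_, ?_, ?_, ?_⟩
  · intro z hz
    rw [hC, centralizer_singleton_of_card_prime' (P : Subgroup G) hP (hZ ▸ z.2)
      (fun h => hz (Subtype.ext h))]
  · rw [hZ, hC]
  · apply le_antisymm
    · intro g hg
      rw [Subgroup.mem_normalizer_iff]
      intro y
      constructor
      · intro hy
        have := hNZ ⟨g⁻¹, inv_mem hg⟩ ⟨y, hy⟩
        simpa using this
      · intro hy
        have := hNZ ⟨g, hg⟩ ⟨_, hy⟩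
        simpa [mul_assoc] using this
    · intro g hg
      rw [Subgroup.mem_normalizer_iff] at hg ⊢
      have hCmem : ∀ y : G, y ∈ D.C ↔ ∀ w ∈ D.Z, w * y = y * w := by
        intro y
        rw [hC, ← hZ, Subgroup.mem_centralizer_iff]
        rfl
      intro y
      rw [hCmem, hCmem]
      constructor
      · intro hy w hw
        have hw' : g⁻¹ * w * g ∈ D.Z := by
          rw [hg]
          have : g * (g⁻¹ * w * g) * g⁻¹ = w := by group
          rwa [this]
        have h1 := (conj_comm_iff g (g⁻¹ * w * g) y).1 (hy _ hw')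
        have h2 : g * (g⁻¹ * w * g) * g⁻¹ = w := by group
        rwa [h2] at h1
      · intro hy w hw
        exact (conj_comm_iff g w y).2 (hy _ ((hg w).1 hw))
  · intro g hg
    have hR : IsPGroup p (Subgroup.zpowers g) :=
      IsPGroup.of_card (n := 1) (by rw [Nat.card_zpowers, hg, pow_one])
    obtain ⟨k, -, hk⟩ := Cfsg.Agent.Lib.Helper11.exists_conj_le_sylow_of_le ⊤ P le_top _ hR le_top
    exact ⟨k, hZ ▸ hk (Cfsg.Agent.Lib.Helper11.conj_mem_conj_smul (Subgroup.mem_zpowers g))⟩

end Cfsg.Agent.Lib.Helper25
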