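import Cfsg.Agent.Lib.Helper83.BLShape
import Cfsg.Agent.Lib.Helper81.Heights
import Cfsg.Agent.Lib.Helper25.DefOneA
import Cfsg.Agent.S0942
import Cfsg.Agent.Lib.Helper80.BlockBasic

/-!
# The principal block for a Sylow subgroup of prime order, given `e ≤ l(B₀)`
-/

set_option autoImplicit false
set_option linter.unusedSectionVars false
set_option linter.style.haveILetI false
open Cfsg
open scoped ComplexConjugate

namespace Cfsg.Agent.Lib.Helper25

open Cfsg.Agent.Lib.Helper20 Cfsg.Agent.Lib.Helper46 Cfsg.Agent.Lib.Helper81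
  Cfsg.Agent.Lib.Helper83

section basic

variable {G : Type*} [Group G]

theorem pReg_pos {p : ℕ} (χ : G → ℂ) {g : G} (hg : ¬ p ∣ orderOf g) :
    pRegularPart p χ g = χ g := by
  unfold pRegularPart
  exact if_pos hg

theorem pReg_neg {p : ℕ} (χ : G → ℂ) {g : G} (hg : p ∣ orderOf g) :
    pRegularPart p χ g = 0 := by
  unfold pRegularPart
  exact if_neg (fun h => h hg)

theorem mem_zpowers_of_card_prime {p : ℕ} [Fact p.Prime] (P : Subgroup G) (hP : Nat.card P = p)
    {y : G} (hy : y ∈ P) (hy1 : y ≠ 1) {x : G} (hx : x ∈ P) : x ∈ Subgroup.zpowers y := by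
  have h1 : Subgroup.zpowers (⟨y, hy⟩ : P) = ⊤ :=
    zpowers_eq_top_of_prime_card hP (fun h => hy1 (congrArg Subtype.val h))
  have h2 : (⟨x, hx⟩ : P) ∈ Subgroup.zpowers (⟨y, hy⟩ : P) := by rw [h1]; trivial
  obtain ⟨k, hk⟩ := h2
  exact ⟨k, by simpa using congrArg Subtype.val hk⟩

theorem comm_of_card_prime {p : ℕ} [Fact p.Prime] (P : Subgroup G) (hP : Nat.card P = p)
    (a b : P) : a * b = b * a := by
  haveI := isCyclic_of_prime_card hP
  exact IsCyclic.commGroup.mul_comm a b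

theorem centralizer_singleton_of_card_prime {p : ℕ} [Fact p.Prime] (P : Subgroup G)
    (hP : Nat.card P = p) {y : G} (hy : y ∈ P) (hy1 : y ≠ 1) :
    Subgroup.centralizer ({y} : Set G) = Subgroup.centralizer (P : Set G) := by
  apply le_antisymm
  · intro g hg
    rw [Subgroup.mem_centralizer_singleton_iff] at hg
    rw [Subgroup.mem_centralizer_iff]
    intro x hx
    obtain ⟨k, rfl⟩ := mem_zpowers_of_card_prime P hP hy hy1 hx
    exact ((Commute.zpow_right (show Commute g y from hg) k).eq).symm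
  · exact Subgroup.centralizer_le (by simpa using hy)

theorem frob_of_card_prime {p : ℕ} [Fact p.Prime] (P : Subgroup G) (hP : Nat.card P = p) :
    ∀ y : G, y ∈ P → y ≠ 1 →
      Subgroup.centralizer ({y} : Set G) ⊓ Subgroup.normalizer (P : Set G)
        = Subgroup.centralizer (P : Set G) := by
  intro y hy hy1
  rw [centralizer_singleton_of_card_prime P hP hy hy1]
  exact inf_eq_left.2 (Subgroup.centralizer_le_normalizer _)

end basic

section main

variable {G : Type*} [Group G] [Fintype G] [Fintype (IrrCharacter G)] {p : ℕ} [Fact p.Prime]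
  {M : Ideal AlgInt}

/-- the degree in terms of the columns -/
theorem degree_eq_blK (P : Subgroup G) [Fintype P] (hc : ∀ a b : P, a * b = b * a)
    [Fintype (P →* ℂˣ)] {χ : IrrCharacter G} (hχ : χ ∈ principalBlock M G) :
    (charDegree (χ : G → ℂ) : ℤ)
      = (Nat.card P : ℤ) * cZ P χ 1 - ∑ ψ : P →* ℂˣ, blK M P ψ χ := by
  have h1 := irr_expand P hc χ 1
  simp only [map_one, Units.val_one, mul_one, OneMemClass.coe_one] at h1
  rw [irr_one_eq] at h1
  have h2 : (charDegree (χ : G → ℂ) : ℤ) = ∑ ψ : P →* ℂˣ, cZ P χ ψ := by exact_mod_cast h1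
  have h3 : ∑ ψ : P →* ℂˣ, blK M P ψ χ = ∑ ψ : P →* ℂˣ, (cZ P χ 1 - cZ P χ ψ) :=
    Finset.sum_congr rfl (fun ψ _ => blK_of_mem M P ψ hχ)
  rw [h3, Finset.sum_sub_distrib, h2, Finset.sum_const, Finset.card_univ,
    ← Nat.card_eq_fintype_card, card_hom hc]
  simp

theorem sum_ne_const {A : Type*} [Fintype A] [DecidableEq A] (x₀ : A) (c : ℤ) :
    ∑ x : A, (if x = x₀ then 0 else c) = ((Fintype.card A : ℤ) - 1) * c := by
  have h : ∀ x : A, (if x = x₀ then 0 else c) = c - (if x = x₀ then c else 0) := by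
    intro x; split_ifs <;> simp
  simp_rw [h]
  rw [Finset.sum_sub_distrib, Finset.sum_ite_eq' Finset.univ x₀, if_pos (Finset.mem_univ _),
    Finset.sum_const, Finset.card_univ]
  simp only [nsmul_eq_mul]
  ring

theorem sum_ite_const_card {A : Type*} [Fintype A] (Q : A → Prop) [DecidablePred Q] (c : ℤ) :
    ∑ x : A, (if Q x then c else 0) = (Nat.card {x : A // Q x} : ℤ) * c := by
  rw [← Finset.sum_filter, Finset.sum_const, Nat.card_eq_fintype_card, Fintype.card_subtype]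
  simp

/-- The description of the principal block. -/
structure PShape (M : Ideal AlgInt) (p e : ℕ) (P : Subgroup G) (X Y : Set (IrrCharacter G))
    (a : IrrCharacter G → ℤ) (ε : ℤ) : Prop where
  union : principalBlock M G = X ∪ Y
  disj : Disjoint X Y
  cardX : Nat.card X = e
  cardY : Nat.card Y = (p - 1) / e
  sign : ∀ χ ∈ X, a χ = 1 ∨ a χ = -1
  val : ∀ χ ∈ X, ∀ y : P, y ≠ 1 → (χ : G → ℂ) y = (a χ : ℂ)
  degX : ∀ χ ∈ X, (charDegree (χ : G → ℂ) : ℤ) ≡ a χ [ZMOD p]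
  eps : ε = 1 ∨ ε = -1
  degY : ∀ θ ∈ Y, (charDegree (θ : G → ℂ) : ℤ) ≡ ε * (e : ℤ) [ZMOD p]
  agree : ∀ θ ∈ Y, ∀ θ' ∈ Y, ∀ g : G, ¬ p ∣ orderOf g → (θ : G → ℂ) g = (θ' : G → ℂ) g
  rel : ∀ θ ∈ Y, ∀ g : G, ¬ p ∣ orderOf g → (ε : ℂ) * (θ : G → ℂ) g
    = ∑ᶠ χ ∈ X, (a χ : ℂ) * (χ : G → ℂ) g

open Classical in
theorem pshape_of_two (hM : IsPModular p M) (P : Sylow p G) (hP : Nat.card (P : Subgroup G) = p)
    (e : ℕ) (he : (Subgroup.centralizer ((P : Subgroup G) : Set G)).relIndex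
      (Subgroup.normalizer ((P : Subgroup G) : Set G)) = e)
    (hcrux : e ≤ blockRank p (principalBlock M G)) (hm2 : e + 1 < p) :
    ∃ (X Y : Set (IrrCharacter G)) (a : IrrCharacter G → ℤ) (ε : ℤ),
      PShape M p e (P : Subgroup G) X Y a ε := by
  haveI : Fintype (P : Subgroup G) := Fintype.ofFinite _
  have hc : ∀ a b : (P : Subgroup G), a * b = b * a := comm_of_card_prime _ hP
  haveI : IsMulCommutative P := ⟨⟨hc⟩⟩
  have hfrob := frob_of_card_prime (P : Subgroup G) hP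
  have hfree := freeNC_of_frob (P : Subgroup G) hfrob
  obtain ⟨ε, d, ζ, a, h⟩ := exists_blShape (M := M) hM P hfrob (by rw [he, hP]; exact hm2)
  haveI : Finite ((P : Subgroup G) →* ℂˣ) := finite_hom hc
  haveI : Fintype ((P : Subgroup G) →* ℂˣ) := Fintype.ofFinite _
  have hcardY := h.card_exc hc hfree
  rw [he, hP] at hcardY
  obtain ⟨t, ht⟩ : ∃ t, t = Nat.card (excSet ζ) := ⟨_, rfl⟩
  rw [← ht] at hcardY
  have ht2 : 2 ≤ t := by
    by_contra hlt
    have : t ≤ 1 := by omega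
    have : t * e ≤ 1 * e := Nat.mul_le_mul_right e this
    omega
  obtain ⟨ψ₀, -, hψ₀, -, -⟩ := exists_two_orbits (P : Subgroup G) hc hfree
    (by rw [he, hP]; exact hm2)
  obtain ⟨y₀, hy₀⟩ : ∃ y₀ : (P : Subgroup G), y₀ ≠ 1 := by
    haveI : Nontrivial (P : Subgroup G) := by
      rw [← Finite.one_lt_card_iff_nontrivial, hP]; exact (Fact.out : p.Prime).one_lt
    exact exists_ne 1
  obtain ⟨F, hF⟩ : ∃ F : Finset (IrrCharacter G),
      F = Finset.univ.filter (fun χ => χ ∈ principalBlock M G \ excSet ζ) := ⟨_, rfl⟩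
  have hmemF : ∀ χ, χ ∈ F ↔ χ ∈ principalBlock M G \ excSet ζ := by intro χ; rw [hF]; simp
  have hPle : (P : Subgroup G) ≤ Subgroup.centralizer ({(y₀ : G)} : Set G) := by
    rw [centralizer_singleton_of_card_prime _ hP y₀.2 (fun h => hy₀ (Subtype.ext h))]
    intro x hx
    rw [Subgroup.mem_centralizer_iff]
    intro z hz
    exact congrArg Subtype.val (hc ⟨z, hz⟩ ⟨x, hx⟩)
  have hne : ∀ χ ∈ F, a χ ≠ 0 := by
    intro χ hχ h0
    have hχ' := (hmemF χ).1 hχ
    have hv := h.value_nonexc hc hχ' hy₀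
    rw [h0, Int.cast_zero] at hv
    exact principal_ne_zero hM P hPle hχ'.1 hv
  have hgram := blK_gram (M := M) hM P hfrob hψ₀ hψ₀
  rw [he, if_pos (dualRel_refl _ ψ₀)] at hgram
  have hnorm := h.norm_eq hψ₀ (e : ℤ) hgram
  rw [← ht] at hnorm
  have hsumF : (∑ χ : IrrCharacter G, if χ ∈ principalBlock M G \ excSet ζ then a χ ^ 2 else 0)
      = ∑ χ ∈ F, a χ ^ 2 := by
    rw [hF, Finset.sum_filter]
  rw [hsumF] at hnorm
  have htd : ((t : ℂ) * d - ε) ≠ 0 := by
    have h0 : ((t : ℤ) * d - ε) ≠ 0 := by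
      intro h0
      have h1 : (t : ℤ) ∣ ε := ⟨d, by linarith⟩
      have h2 : (t : ℤ) ∣ 1 := by
        rcases h.eps with h' | h' <;> rw [h'] at h1
        · exact h1
        · exact (dvd_neg.1 h1)
      have := Int.le_of_dvd one_pos h2
      omega
    exact_mod_cast h0
  have hrel : ∀ φ, φ ≠ 1 → ∀ g : G, ¬ p ∣ orderOf g →
      ((t : ℂ) * d - ε) * (ζ φ : G → ℂ) g + ∑ χ ∈ F, (a χ : ℂ) * (χ : G → ℂ) g = 0 := by
    intro φ hφ g hg
    have h3 := h.regular_rel hM P.2 hφ hg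
    rw [← ht, ← Finset.sum_filter, ← hF] at h3
    exact h3
  have hrank : blockRank p (principalBlock M G) ≤ F.card := by
    apply blockRank_le_card
    intro χ hχ
    by_cases hY : χ ∈ excSet ζ
    · obtain ⟨φ, hφ, rfl⟩ := hY
      have h4 : pRegularPart p (ζ φ : G → ℂ) = (-((t : ℂ) * d - ε)⁻¹) •
          ∑ χ' ∈ F, (a χ' : ℂ) • pRegularPart p (χ' : G → ℂ) := by
        funext g
        by_cases hg : p ∣ orderOf g
        · simp [pReg_neg _ hg, Finset.sum_apply]
        · have h3 := hrel φ hφ g hg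
          simp only [Pi.smul_apply, Finset.sum_apply, pReg_pos _ hg, smul_eq_mul]
          field_simp
          linear_combination h3
      rw [h4]
      exact Submodule.smul_mem _ _ (Submodule.sum_mem _ (fun χ' hχ' =>
        Submodule.smul_mem _ _ (Submodule.subset_span ⟨χ', hχ', rfl⟩)))
    · exact Submodule.subset_span ⟨χ, (hmemF χ).2 ⟨hχ, hY⟩, rfl⟩
  have hS : (e : ℤ) ≤ ∑ χ ∈ F, a χ ^ 2 := by
    have h1 : (F.card : ℤ) ≤ ∑ χ ∈ F, a χ ^ 2 := by
      have h5 : ∑ χ ∈ F, (1 : ℤ) ≤ ∑ χ ∈ F, a χ ^ 2 := Finset.sum_le_sum (fun χ hχ => by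
        have h6 := hne χ hχ
        have h7 : 0 < a χ ^ 2 := by positivity
        linarith)
      simpa using h5
    have h2 : (e : ℤ) ≤ F.card := by exact_mod_cast hcrux.trans hrank
    linarith
  obtain ⟨hd, hSe⟩ := defone_arith h.eps (by exact_mod_cast ht2) hnorm hS
  obtain ⟨hFc, hsign⟩ := card_eq_of_sum_sq F a e hne hSe (hcrux.trans hrank)
  have hp1 : 1 < p := (Fact.out : p.Prime).one_lt
  have he0 : 0 < e := by
    rcases Nat.eq_zero_or_pos e with h0 | h0
    · rw [h0] at hcardY; omega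
    · exact h0
  have hcardX : Fintype.card ((P : Subgroup G) →* ℂˣ) = p := by
    rw [← Nat.card_eq_fintype_card, card_hom hc, hP]
  have htep : (t : ℤ) * e = p - 1 := by
    have : ((t * e : ℕ) : ℤ) = ((p - 1 : ℕ) : ℤ) := by rw [hcardY]
    rw [Nat.cast_sub hp1.le] at this
    push_cast at this
    exact this
  refine ⟨principalBlock M G \ excSet ζ, excSet ζ, a, ε - t * d, ?_⟩
  constructor
  · exact (Set.sdiff_union_of_subset h.exc_subset).symm
  · exact Set.disjoint_sdiff_left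
  · have h8 : (F : Set (IrrCharacter G)) = principalBlock M G \ excSet ζ := by
      ext χ; simp only [Finset.mem_coe, hmemF]
    rw [← h8, Nat.card_coe_set_eq, Set.ncard_coe_finset]; exact hFc
  · rw [← ht, ← hcardY, Nat.mul_div_cancel _ he0]
  · exact fun χ hχ => hsign χ ((hmemF χ).2 hχ)
  · exact fun χ hχ y hy => h.value_nonexc hc hχ hy
  · intro χ hχ
    have h9 := degree_eq_blK (M := M) (P : Subgroup G) hc hχ.1
    have h10 : ∑ ψ : (P : Subgroup G) →* ℂˣ, blK M (P : Subgroup G) ψ χ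
        = ∑ ψ : (P : Subgroup G) →* ℂˣ, (if ψ = 1 then 0 else a χ) := by
      apply Finset.sum_congr rfl
      intro ψ _
      split_ifs with h1
      · rw [h1, blK_one]
      · rw [h.shape ψ h1 χ, if_pos hχ, if_neg hχ.2,
          if_neg (fun hh => hχ.2 ⟨ψ, h1, hh.symm⟩)]
        ring
    rw [h10, sum_ne_const, hcardX, hP] at h9
    rw [h9]
    apply Int.ModEq.symm
    rw [Int.modEq_iff_dvd]
    exact ⟨cZ (P : Subgroup G) χ 1 - a χ, by ring⟩
  · rcases hd with hd | ⟨ht', hd⟩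
    · rw [hd]; simpa using h.eps
    · rw [ht', hd]
      rcases h.eps with h' | h' <;> rw [h'] <;> norm_num
  · rintro _ ⟨φ, hφ, rfl⟩
    have h9 := degree_eq_blK (M := M) (P : Subgroup G) hc (h.mem φ hφ)
    have hY' : ζ φ ∈ excSet ζ := ⟨φ, hφ, rfl⟩
    have h10 : ∑ ψ : (P : Subgroup G) →* ℂˣ, blK M (P : Subgroup G) ψ (ζ φ)
        = ∑ ψ : (P : Subgroup G) →* ℂˣ, ((if ψ = 1 then 0 else d)
          - (if dualRel (P : Subgroup G) φ ψ then ε else 0)) := by
      apply Finset.sum_congr rfl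
      intro ψ _
      by_cases h1 : ψ = 1
      · rw [h1, blK_one, if_pos rfl, if_neg, sub_zero]
        intro hr
        exact dualRel_ne_one _ hr hφ rfl
      · rw [h.shape ψ h1 (ζ φ), if_neg (fun hh => hh.2 hY'), if_pos hY', if_neg h1]
        have : (ζ φ = ζ ψ) ↔ dualRel (P : Subgroup G) φ ψ := h.inj φ ψ hφ h1
        simp only [this]
        ring
    rw [h10, Finset.sum_sub_distrib, sum_ne_const, sum_ite_const_card,
      card_dualRel_class (P : Subgroup G) hc hfree hφ, he, hcardX, hP] at h9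
    rw [h9]
    apply Int.ModEq.symm
    rw [Int.modEq_iff_dvd]
    exact ⟨cZ (P : Subgroup G) (ζ φ) 1, by linear_combination (d) * htep⟩
  · rintro _ ⟨ψ, hψ, rfl⟩ _ ⟨ψ', hψ', rfl⟩ g hg
    exact h.exc_agree hM P.2 hψ hψ' hg
  · rintro _ ⟨φ, hφ, rfl⟩ g hg
    have h3 := hrel φ hφ g hg
    rw [finsum_mem_irr, ← Finset.sum_filter, ← hF]
    push_cast
    linear_combination -h3

open Classical in
theorem pshape_of_one (hM : IsPModular p M) (P : Sylow p G) (hP : Nat.card (P : Subgroup G) = p)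
    (e : ℕ) (he : (Subgroup.centralizer ((P : Subgroup G) : Set G)).relIndex
      (Subgroup.normalizer ((P : Subgroup G) : Set G)) = e)
    (hcrux : e ≤ blockRank p (principalBlock M G)) (hm1 : e + 1 = p) :
    ∃ (X Y : Set (IrrCharacter G)) (a : IrrCharacter G → ℤ) (ε : ℤ),
      PShape M p e (P : Subgroup G) X Y a ε := by
  haveI : Fintype (P : Subgroup G) := Fintype.ofFinite _
  have hc : ∀ a b : (P : Subgroup G), a * b = b * a := comm_of_card_prime _ hP
  haveI : IsMulCommutative P := ⟨⟨hc⟩⟩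
  have hfrob := frob_of_card_prime (P : Subgroup G) hP
  have hfree := freeNC_of_frob (P : Subgroup G) hfrob
  haveI : Finite ((P : Subgroup G) →* ℂˣ) := finite_hom hc
  haveI : Fintype ((P : Subgroup G) →* ℂˣ) := Fintype.ofFinite _
  have hp1 : 1 < p := (Fact.out : p.Prime).one_lt
  obtain ⟨y₀, hy₀⟩ : ∃ y₀ : (P : Subgroup G), y₀ ≠ 1 := by
    haveI : Nontrivial (P : Subgroup G) := by
      rw [← Finite.one_lt_card_iff_nontrivial, hP]; exact hp1
    exact exists_ne 1
  obtain ⟨ψ₀, hψ₀'⟩ := exists_hom_ne_one hc hy₀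
  have hψ₀ : ψ₀ ≠ 1 := by rintro rfl; exact hψ₀' rfl
  have hcardX : Fintype.card ((P : Subgroup G) →* ℂˣ) = p := by
    rw [← Nat.card_eq_fintype_card, card_hom hc, hP]
  -- all nontrivial characters are related
  have hall : ∀ ψ : (P : Subgroup G) →* ℂˣ, ψ ≠ 1 → dualRel (P : Subgroup G) ψ₀ ψ := by
    have h1 : Finset.univ.filter (fun ψ => dualRel (P : Subgroup G) ψ₀ ψ)
        = Finset.univ.erase (1 : (P : Subgroup G) →* ℂˣ) := by
      apply Finset.eq_of_subset_of_card_le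
      · intro ψ hψ
        rw [Finset.mem_filter] at hψ
        exact Finset.mem_erase.2 ⟨dualRel_ne_one _ hψ.2 hψ₀, Finset.mem_univ _⟩
      · rw [Finset.card_erase_of_mem (Finset.mem_univ _), Finset.card_univ, hcardX,
          ← Fintype.card_subtype, ← Nat.card_eq_fintype_card,
          card_dualRel_class (P : Subgroup G) hc hfree hψ₀, he]
        omega
    intro ψ hψ
    have h2 : ψ ∈ Finset.univ.erase (1 : (P : Subgroup G) →* ℂˣ) :=
      Finset.mem_erase.2 ⟨hψ, Finset.mem_univ _⟩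
    rw [← h1, Finset.mem_filter] at h2
    exact h2.2
  obtain ⟨a, ha⟩ : ∃ a : IrrCharacter G → ℤ, a = blK M (P : Subgroup G) ψ₀ := ⟨_, rfl⟩
  have hcol : ∀ ψ : (P : Subgroup G) →* ℂˣ, ∀ χ, blK M (P : Subgroup G) ψ χ
      = if ψ = 1 then 0 else a χ := by
    intro ψ χ
    split_ifs with h1
    · rw [h1, blK_one]
    · rw [blK_dualRel M (P : Subgroup G) (hall ψ h1), ha]
  have hval : ∀ χ ∈ principalBlock M G, ∀ y : (P : Subgroup G), y ≠ 1 →
      (χ : G → ℂ) y = (a χ : ℂ) := by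
    intro χ hχ y hy
    rw [blK_value (P : Subgroup G) hc hχ hy]
    have h1 := sum_hom_dual hc y
    rw [if_neg hy] at h1
    have h2 : ∀ ψ : (P : Subgroup G) →* ℂˣ, ((blK M (P : Subgroup G) ψ χ : ℤ) : ℂ) * ((ψ y : ℂˣ) : ℂ)
        = (a χ : ℂ) * ((ψ y : ℂˣ) : ℂ) - (if ψ = 1 then (a χ : ℂ) else 0) := by
      intro ψ
      rw [hcol]
      split_ifs with h3
      · rw [h3]; simp
      · simp
    simp_rw [h2]
    rw [Finset.sum_sub_distrib, ← Finset.mul_sum, h1, Finset.sum_ite_eq' Finset.univ 1,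
      if_pos (Finset.mem_univ _)]
    ring
  obtain ⟨F, hF⟩ : ∃ F : Finset (IrrCharacter G),
      F = Finset.univ.filter (fun χ => χ ∈ principalBlock M G) := ⟨_, rfl⟩
  have hmemF : ∀ χ, χ ∈ F ↔ χ ∈ principalBlock M G := by intro χ; rw [hF]; simp
  have hPle : (P : Subgroup G) ≤ Subgroup.centralizer ({(y₀ : G)} : Set G) := by
    rw [centralizer_singleton_of_card_prime _ hP y₀.2 (fun h => hy₀ (Subtype.ext h))]
    intro x hx
    rw [Subgroup.mem_centralizer_iff]
    intro z hz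
    exact congrArg Subtype.val (hc ⟨z, hz⟩ ⟨x, hx⟩)
  have hne : ∀ χ ∈ F, a χ ≠ 0 := by
    intro χ hχ h0
    have hχ' := (hmemF χ).1 hχ
    have hv := hval χ hχ' y₀ hy₀
    rw [h0, Int.cast_zero] at hv
    exact principal_ne_zero hM P hPle hχ' hv
  have hzero : ∀ χ, χ ∉ F → a χ = 0 := by
    intro χ hχ
    rw [ha]
    exact blK_of_not_mem M _ _ (fun h => hχ ((hmemF χ).2 h))
  have hgram := blK_gram (M := M) hM P hfrob hψ₀ hψ₀
  rw [he, if_pos (dualRel_refl _ ψ₀), ← ha] at hgram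
  have hnorm : ∑ χ ∈ F, a χ ^ 2 = ((e + 1 : ℕ) : ℤ) := by
    rw [Nat.cast_add, Nat.cast_one, ← hgram]
    apply Finset.sum_subset_zero_on_sdiff (Finset.subset_univ _)
    · intro χ hχ
      rw [hzero χ (Finset.mem_sdiff.1 hχ).2]; ring
    · intro χ _; ring
  have hrel : ∀ g : G, ¬ p ∣ orderOf g → ∑ χ ∈ F, (a χ : ℂ) * (χ : G → ℂ) g = 0 := by
    intro g hg
    have h3 := blK_vanish (M := M) hM (P : Subgroup G) P.2 ψ₀ hg
    rw [zcomb_apply, ← ha] at h3
    rw [← h3]
    apply Finset.sum_subset_zero_on_sdiff (Finset.subset_univ _)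
    · intro χ hχ
      rw [hzero χ (Finset.mem_sdiff.1 hχ).2]; simp
    · intro χ _; rfl
  obtain ⟨θ₀, hθ₀⟩ : ∃ θ₀ : IrrCharacter G, θ₀ ∈ F :=
    ⟨Cfsg.Agent.Lib.Helper80.trivIrr G,
      (hmemF _).2 (Cfsg.Agent.Lib.Helper80.trivIrr_mem_principalBlock hM)⟩
  have hrel' : ∀ g : G, ¬ p ∣ orderOf g →
      (a θ₀ : ℂ) * (θ₀ : G → ℂ) g + ∑ χ ∈ F.erase θ₀, (a χ : ℂ) * (χ : G → ℂ) g = 0 := by
    intro g hg
    rw [Finset.add_sum_erase F (fun χ => (a χ : ℂ) * (χ : G → ℂ) g) hθ₀]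
    exact hrel g hg
  have ha0 : (a θ₀ : ℂ) ≠ 0 := by exact_mod_cast hne θ₀ hθ₀
  have hrank : blockRank p (principalBlock M G) ≤ (F.erase θ₀).card := by
    apply blockRank_le_card
    intro χ hχ
    by_cases hY : χ = θ₀
    · subst hY
      have h4 : pRegularPart p (χ : G → ℂ) = (-(a χ : ℂ)⁻¹) •
          ∑ χ' ∈ F.erase χ, (a χ' : ℂ) • pRegularPart p (χ' : G → ℂ) := by
        funext g
        by_cases hg : p ∣ orderOf g
        · simp [pReg_neg _ hg, Finset.sum_apply]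
        · have h3 := hrel' g hg
          simp only [Pi.smul_apply, Finset.sum_apply, pReg_pos _ hg, smul_eq_mul]
          field_simp
          linear_combination h3
      rw [h4]
      exact Submodule.smul_mem _ _ (Submodule.sum_mem _ (fun χ' hχ' =>
        Submodule.smul_mem _ _ (Submodule.subset_span ⟨χ', hχ', rfl⟩)))
    · exact Submodule.subset_span ⟨χ, Finset.mem_coe.2
        (Finset.mem_erase.2 ⟨hY, (hmemF χ).2 hχ⟩), rfl⟩
  have hcardF : e + 1 ≤ F.card := by
    have h1 := Finset.card_erase_of_mem hθ₀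
    have h2 : 0 < F.card := Finset.card_pos.2 ⟨θ₀, hθ₀⟩
    have h3 := hcrux.trans hrank
    omega
  obtain ⟨hFc, hsign⟩ := card_eq_of_sum_sq F a (e + 1) hne hnorm hcardF
  have hdeg : ∀ χ ∈ principalBlock M G, (charDegree (χ : G → ℂ) : ℤ) ≡ a χ [ZMOD p] := by
    intro χ hχ
    have h9 := degree_eq_blK (M := M) (P : Subgroup G) hc hχ
    simp_rw [hcol] at h9
    rw [sum_ne_const, hcardX, hP] at h9
    rw [h9]
    apply Int.ModEq.symm
    rw [Int.modEq_iff_dvd]
    exact ⟨cZ (P : Subgroup G) χ 1 - a χ, by ring⟩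
  have hθ₀B := (hmemF θ₀).1 hθ₀
  refine ⟨principalBlock M G \ {θ₀}, {θ₀}, a, - a θ₀, ?_⟩
  constructor
  · exact (Set.sdiff_union_of_subset (Set.singleton_subset_iff.2 hθ₀B)).symm
  · exact Set.disjoint_sdiff_left
  · have h8 : ((F.erase θ₀ : Finset (IrrCharacter G)) : Set (IrrCharacter G))
        = principalBlock M G \ {θ₀} := by
      ext χ
      simp only [Finset.mem_coe, Finset.mem_erase, hmemF, Set.mem_sdiff, Set.mem_singleton_iff]
      tauto
    rw [← h8, Nat.card_coe_set_eq, Set.ncard_coe_finset, Finset.card_erase_of_mem hθ₀, hFc]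
    rfl
  · have : p - 1 = e := by omega
    rw [this, Nat.div_self (by omega)]
    simp
  · exact fun χ hχ => hsign χ ((hmemF χ).2 hχ.1)
  · exact fun χ hχ y hy => hval χ hχ.1 y hy
  · exact fun χ hχ => hdeg χ hχ.1
  · rcases hsign θ₀ hθ₀ with h' | h' <;> rw [h'] <;> norm_num
  · intro θ hθ
    rw [Set.mem_singleton_iff] at hθ
    subst hθ
    refine (hdeg θ hθ₀B).trans ?_
    rw [Int.modEq_iff_dvd]
    have : (e : ℤ) = p - 1 := by
      have : ((e + 1 : ℕ) : ℤ) = p := by rw [hm1]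
      push_cast at this; linarith
    exact ⟨- a θ, by rw [this]; ring⟩
  · intro θ hθ θ' hθ' g _
    rw [Set.mem_singleton_iff] at hθ hθ'
    rw [hθ, hθ']
  · intro θ hθ g hg
    rw [Set.mem_singleton_iff] at hθ
    subst hθ
    have h3 := hrel' g hg
    have h8 : ∑ᶠ χ ∈ principalBlock M G \ {θ}, (a χ : ℂ) * (χ : G → ℂ) g
        = ∑ χ ∈ F.erase θ, (a χ : ℂ) * (χ : G → ℂ) g := by
      rw [finsum_mem_irr, ← Finset.sum_filter]
      apply Finset.sum_congr _ (fun _ _ => rfl)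
      ext χ
      simp only [Finset.mem_filter, Finset.mem_univ, true_and, Finset.mem_erase, hmemF,
        Set.mem_sdiff, Set.mem_singleton_iff]
      tauto
    rw [h8]
    push_cast
    linear_combination -h3

end main

section final

/-- The principal block for a Sylow subgroup of prime order, given the inequality `e ≤ l(B₀)`. -/
theorem principal_defect_one {G : Type*} [Group G] [Fintype G] (p : ℕ) [Fact p.Prime]
    (M : Ideal AlgInt) (hM : IsPModular p M) (P : Sylow p G) (hP : Nat.card P = p) (e : ℕ)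
    (he : (Subgroup.centralizer ((P : Subgroup G) : Set G)).relIndex
      (Subgroup.normalizer ((P : Subgroup G) : Set G)) = e)
    (hcrux : e ≤ blockRank p (principalBlock M G)) :
    ∃ X Y : Set (IrrCharacter G), principalBlock M G = X ∪ Y ∧ Disjoint X Y ∧ Nat.card X = e ∧
      Nat.card Y = (p - 1) / e ∧ ∃ (εX : IrrCharacter G → ℤ) (ε : ℤ),
      (∀ χ ∈ X, (εX χ = 1 ∨ εX χ = -1) ∧ (charDegree (χ : G → ℂ) : ℤ) ≡ εX χ [ZMOD p] ∧
        ∀ x : G, x ∈ (P : Subgroup G) → x ≠ 1 → ∀ y : G,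
          y ∈ Subgroup.centralizer ((P : Subgroup G) : Set G) → ¬ p ∣ orderOf y →
          (χ : G → ℂ) (x * y) = (εX χ : ℂ)) ∧
      (ε = 1 ∨ ε = -1) ∧ (∀ θ ∈ Y, (charDegree (θ : G → ℂ) : ℤ) ≡ ε * (e : ℤ) [ZMOD p]) ∧
      (∀ θ ∈ Y, ∀ θ' ∈ Y, ∀ g : G, ¬ p ∣ orderOf g → (θ : G → ℂ) g = (θ' : G → ℂ) g) ∧
      ∀ θ ∈ Y, ∀ g : G, ¬ p ∣ orderOf g →
        (ε : ℂ) * (θ : G → ℂ) g = ∑ᶠ χ ∈ X, (εX χ : ℂ) * (χ : G → ℂ) g := by
  classical
  haveI : Finite (IrrCharacter G) := finite_irrCharacter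
  haveI : Fintype (IrrCharacter G) := Fintype.ofFinite _
  have hP' : Nat.card (P : Subgroup G) = p := hP
  have hc : ∀ a b : (P : Subgroup G), a * b = b * a := comm_of_card_prime _ hP'
  haveI : IsMulCommutative P := ⟨⟨hc⟩⟩
  have hfrob := frob_of_card_prime (P : Subgroup G) hP'
  have hfree := freeNC_of_frob (P : Subgroup G) hfrob
  have hp1 : 1 < p := (Fact.out : p.Prime).one_lt
  have hle : e + 1 ≤ p := by
    haveI : Finite ((P : Subgroup G) →* ℂˣ) := finite_hom hc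
    haveI : Fintype ((P : Subgroup G) →* ℂˣ) := Fintype.ofFinite _
    obtain ⟨y₀, hy₀⟩ : ∃ y₀ : (P : Subgroup G), y₀ ≠ 1 := by
      haveI : Nontrivial (P : Subgroup G) := by
        rw [← Finite.one_lt_card_iff_nontrivial, hP']; exact hp1
      exact exists_ne 1
    obtain ⟨ψ₀, hψ₀'⟩ := exists_hom_ne_one hc hy₀
    have hψ₀ : ψ₀ ≠ 1 := by rintro rfl; exact hψ₀' rfl
    have h1 := card_dualRel_class (P : Subgroup G) hc hfree hψ₀
    have h2 := card_hom_ne_one hc (A := (P : Subgroup G))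
    rw [he] at h1
    rw [hP'] at h2
    have h3 : Nat.card {ψ : (P : Subgroup G) →* ℂˣ // dualRel (P : Subgroup G) ψ₀ ψ}
        ≤ Nat.card {ψ : (P : Subgroup G) →* ℂˣ // ψ ≠ 1} :=
      Nat.card_le_card_of_injective
        (fun ψ => ⟨ψ.1, dualRel_ne_one _ ψ.2 hψ₀⟩)
        (fun a b hab => Subtype.ext (congrArg (fun z => z.1) hab))
    omega
  obtain ⟨X, Y, a, ε, h⟩ : ∃ (X Y : Set (IrrCharacter G)) (a : IrrCharacter G → ℤ) (ε : ℤ),
      PShape M p e (P : Subgroup G) X Y a ε := by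
    rcases Nat.lt_or_ge (e + 1) p with h | h
    · exact pshape_of_two hM P hP' e he hcrux h
    · exact pshape_of_one hM P hP' e he hcrux (le_antisymm hle h)
  refine ⟨X, Y, h.union, h.disj, h.cardX, h.cardY, a, ε, ?_, h.eps, h.degY, h.agree, h.rel⟩
  intro χ hχ
  refine ⟨h.sign χ hχ, h.degX χ hχ, ?_⟩
  intro x hx hx1 y hy hreg
  have hχB : χ ∈ principalBlock M G := by rw [h.union]; exact Or.inl hχ
  have hord : orderOf x = p ^ 1 := by
    rw [pow_one]
    have h1 : orderOf (⟨x, hx⟩ : (P : Subgroup G)) ∣ p := by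
      have h0 := orderOf_dvd_natCard (⟨x, hx⟩ : (P : Subgroup G))
      rwa [hP'] at h0
    rw [Subgroup.orderOf_mk] at h1
    rcases (Nat.dvd_prime (Fact.out : p.Prime)).1 h1 with h2 | h2
    · exact absurd (orderOf_eq_one_iff.1 h2) hx1
    · exact h2
  have hcomm : Commute x y := by
    rw [Subgroup.mem_centralizer_iff] at hy
    exact hy x hx
  rw [Cfsg.Agent.S0942.result p M hM x ⟨1, hord⟩ y
    (mem_centralizerPPrimeCore_of_regular P hx (hfrob x hx hx1) hcomm hreg) χ hχB]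
  exact h.val χ hχ ⟨x, hx⟩ (fun hh => hx1 (congrArg Subtype.val hh))

end final

end Cfsg.Agent.Lib.Helper25
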