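import Cfsg.Agent.Lib.Helper25.BSGroup
import Cfsg.Agent.Lib.Helper11.DihedralSylow
import Cfsg.Agent.Lib.Helper11.SylowAux

set_option autoImplicit false

/-! Group theory of dihedral Sylow 2-subgroups, in ambient form. -/

open Cfsg
open scoped Pointwise

namespace Cfsg.Agent.Lib.Helper25

variable {G : Type*} [Group G]

/-- ambient description of a dihedral subgroup `P = ⟨σ, τ⟩` of order `2N`. -/
structure Dih (P : Subgroup G) (σ τ : G) (N : ℕ) : Prop where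
  σ_mem : σ ∈ P
  τ_mem : τ ∈ P
  ordσ : orderOf σ = N
  ordτ : orderOf τ = 2
  rel : τ * σ * τ⁻¹ = σ⁻¹
  cases : ∀ x ∈ P, ∃ a : ℕ, x = σ ^ a ∨ x = σ ^ a * τ
  card : Nat.card P = 2 * N

namespace Dih

variable {P : Subgroup G} {σ τ : G} {N : ℕ}

theorem ττ (D : Dih P σ τ N) : τ * τ = 1 := by
  have : τ ^ 2 = 1 := D.ordτ ▸ pow_orderOf_eq_one τ
  rwa [sq] at this

theorem τinv (D : Dih P σ τ N) : τ⁻¹ = τ := inv_eq_of_mul_eq_one_left D.ττ

theorem rel_mem (D : Dih P σ τ N) {s : G} (hs : s ∈ Subgroup.zpowers σ) : τ * s * τ⁻¹ = s⁻¹ := by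
  obtain ⟨k, rfl⟩ := hs
  show τ * σ ^ k * τ⁻¹ = (σ ^ k)⁻¹
  rw [← conj_zpow, D.rel, inv_zpow]

theorem rel_pow (D : Dih P σ τ N) (k : ℕ) : τ * σ ^ k * τ⁻¹ = (σ ^ k)⁻¹ := by
  rw [← conj_pow, D.rel, inv_pow]

theorem not_mem_form (D : Dih P σ τ N) {x : G} (hx : x ∈ P) (hxA : x ∉ Subgroup.zpowers σ) :
    ∃ a : ℕ, x = σ ^ a * τ := by
  obtain ⟨a, h | h⟩ := D.cases x hx
  · exact absurd (h ▸ Subgroup.pow_mem _ (Subgroup.mem_zpowers σ) a) hxA
  · exact ⟨a, h⟩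

theorem sq_of_not_mem (D : Dih P σ τ N) {x : G} (hx : x ∈ P) (hxA : x ∉ Subgroup.zpowers σ) :
    x * x = 1 := by
  obtain ⟨a, rfl⟩ := D.not_mem_form hx hxA
  have e : σ ^ a * τ * (σ ^ a * τ) = σ ^ a * (τ * σ ^ a * τ⁻¹) * (τ * τ) := by group
  rw [e, D.rel_pow, D.ττ]; group

theorem inv_of_not_mem (D : Dih P σ τ N) {x : G} (hx : x ∈ P) (hxA : x ∉ Subgroup.zpowers σ)
    {s : G} (hs : s ∈ Subgroup.zpowers σ) : x * s * x⁻¹ = s⁻¹ := by
  obtain ⟨a, rfl⟩ := D.not_mem_form hx hxA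
  have e : σ ^ a * τ * s * (σ ^ a * τ)⁻¹ = σ ^ a * (τ * s * τ⁻¹) * (σ ^ a)⁻¹ := by group
  rw [e, D.rel_mem hs]
  obtain ⟨k, rfl⟩ := hs
  show σ ^ a * (σ ^ k)⁻¹ * (σ ^ a)⁻¹ = (σ ^ k)⁻¹
  rw [← zpow_natCast σ a, ← zpow_neg, ← zpow_neg, ← zpow_add, ← zpow_add]
  congr 1; ring

theorem mul_mem_of_not_mem (D : Dih P σ τ N) {x y : G} (hx : x ∈ P)
    (hxA : x ∉ Subgroup.zpowers σ) (hy : y ∈ P) (hyA : y ∉ Subgroup.zpowers σ) :
    x * y ∈ Subgroup.zpowers σ := by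
  obtain ⟨a, rfl⟩ := D.not_mem_form hx hxA
  obtain ⟨b, rfl⟩ := D.not_mem_form hy hyA
  have e : σ ^ a * τ * (σ ^ b * τ) = σ ^ a * (τ * σ ^ b * τ⁻¹) * (τ * τ) := by group
  rw [e, D.rel_pow, D.ττ, mul_one]
  exact Subgroup.mul_mem _ (Subgroup.pow_mem _ (Subgroup.mem_zpowers σ) a)
    (Subgroup.inv_mem _ (Subgroup.pow_mem _ (Subgroup.mem_zpowers σ) b))

theorem ordJ (D : Dih P σ τ N) {h : ℕ} (hN : N = 2 * h) (hh : 0 < h) : orderOf (σ ^ h) = 2 := by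
  rw [orderOf_pow_of_dvd hh.ne' (by rw [D.ordσ, hN]; exact Dvd.intro_left 2 rfl), D.ordσ, hN]
  exact Nat.mul_div_cancel 2 hh

theorem sq_one_cases [Finite G] (D : Dih P σ τ N) {h : ℕ} (hN : N = 2 * h) (hh : 0 < h) {s : G}
    (hs : s ∈ Subgroup.zpowers σ) (hss : s * s = 1) : s = 1 ∨ s = σ ^ h := by
  by_cases h1 : s = 1
  · exact Or.inl h1
  · right
    exact Cfsg.Agent.Lib.Helper11.eq_of_orderOf_two_of_mem_cyclic (Subgroup.zpowers σ) hs
      (Subgroup.pow_mem _ (Subgroup.mem_zpowers σ) h)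
      (Cfsg.Agent.Lib.Helper11.orderOf_two_iff.2 ⟨hss, h1⟩) (D.ordJ hN hh)

theorem invol_cases [Finite G] (D : Dih P σ τ N) {h : ℕ} (hN : N = 2 * h) (hh : 0 < h) {x : G}
    (hx : x ∈ P) (hx2 : orderOf x = 2) : x = σ ^ h ∨ x ∉ Subgroup.zpowers σ := by
  by_cases hxA : x ∈ Subgroup.zpowers σ
  · left
    obtain ⟨h1, h2⟩ := Cfsg.Agent.Lib.Helper11.orderOf_two_iff.1 hx2
    exact (D.sq_one_cases hN hh hxA h1).resolve_left h2
  · exact Or.inr hxA

theorem zpowers_le (D : Dih P σ τ N) : Subgroup.zpowers σ ≤ P :=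
  (Subgroup.zpowers_le).2 D.σ_mem

/-- the centralizer in `P` of a non-central involution. -/
theorem comm_cases [Finite G] (D : Dih P σ τ N) {h : ℕ} (hN : N = 2 * h) (hh : 0 < h) {x w : G}
    (hx : x ∈ P) (hxA : x ∉ Subgroup.zpowers σ) (hw : w ∈ P) (hc : w * x = x * w) :
    w = 1 ∨ w = σ ^ h ∨ w = x ∨ w = σ ^ h * x := by
  have hxx := D.sq_of_not_mem hx hxA
  have key : ∀ s ∈ Subgroup.zpowers σ, s * x = x * s → s = 1 ∨ s = σ ^ h := by
    intro s hs hsc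
    apply D.sq_one_cases hN hh hs
    have h1 := D.inv_of_not_mem hx hxA hs
    rw [← hsc, mul_inv_cancel_right] at h1
    calc s * s = s * s⁻¹ := by rw [← h1]
      _ = 1 := mul_inv_cancel s
  by_cases hwA : w ∈ Subgroup.zpowers σ
  · rcases key w hwA hc with h1 | h1
    · exact Or.inl h1
    · exact Or.inr (Or.inl h1)
  · have h1 := D.mul_mem_of_not_mem hw hwA hx hxA
    have h2 : w * x * x = x * (w * x) := by rw [hc, mul_assoc, ← hc]
    have e : w = w * x * x := by rw [mul_assoc, hxx, mul_one]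
    rcases key _ h1 h2 with h3 | h3
    · right; right; left
      rw [e, h3, one_mul]
    · right; right; right
      rw [e, h3]

theorem J_central (D : Dih P σ τ N) {h : ℕ} (hN : N = 2 * h) (hh : 0 < h) {x : G} (hx : x ∈ P) :
    x * σ ^ h = σ ^ h * x := by
  have hJJ : σ ^ h * σ ^ h = 1 := by
    rw [← pow_add, ← two_mul, ← hN, ← D.ordσ, pow_orderOf_eq_one]
  have hJi : (σ ^ h)⁻¹ = σ ^ h := inv_eq_of_mul_eq_one_left hJJ
  have hτ : τ * σ ^ h = σ ^ h * τ := by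
    have h1 := D.rel_pow h
    rw [hJi] at h1
    calc τ * σ ^ h = τ * σ ^ h * τ⁻¹ * τ := by group
      _ = σ ^ h * τ := by rw [h1]
  obtain ⟨a, rfl | rfl⟩ := D.cases x hx
  · rw [← pow_add, ← pow_add, add_comm]
  · rw [mul_assoc, hτ, ← mul_assoc, ← mul_assoc, ← pow_add, ← pow_add, add_comm]

end Dih

/-- a dihedral subgroup in the sense of Mathlib gives the ambient data. -/
theorem exists_dih [Finite G] (P : Subgroup G) (hP2 : IsPGroup 2 P) (m : ℕ) (hm : 3 ≤ m)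
    (e : P ≃* DihedralGroup m) {σ : G} (hσ : σ ∈ P) (ho : orderOf σ = m) :
    ∃ τ, Dih P σ τ m := by
  obtain ⟨Q, z, hQP, hQc, hQi, -, -, hinv⟩ :=
    Cfsg.Agent.Lib.Helper11.dih_data P hP2 m (by omega) e
  have hcardP : Nat.card P = 2 * m := by
    rw [Nat.card_congr e.toEquiv, DihedralGroup.nat_card]
  have hσQ : σ ∈ Q := by
    by_contra h
    have h1 := (hinv σ hσ h).1
    have h2 : orderOf σ ∣ 2 := orderOf_dvd_of_pow_eq_one (by rw [sq]; exact h1)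
    have h3 := Nat.le_of_dvd (by norm_num) h2
    omega
  have hcardQ : Nat.card Q = m := by
    have h1 := Subgroup.card_mul_index (Q.subgroupOf P)
    rw [Nat.card_congr (Subgroup.subgroupOfEquivOfLe hQP).toEquiv] at h1
    have h2 : (Q.subgroupOf P).index = 2 := hQi
    rw [h2, hcardP] at h1
    omega
  have hQeq : Subgroup.zpowers σ = Q :=
    Subgroup.eq_of_le_of_card_ge ((Subgroup.zpowers_le).2 hσQ)
      (by rw [Nat.card_zpowers, ho, hcardQ])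
  obtain ⟨τ, hτP, hτQ⟩ : ∃ τ ∈ P, τ ∉ Q := by
    by_contra hno
    push Not at hno
    have h1 : Q.relIndex P = 1 := Subgroup.relIndex_eq_one.2 hno
    omega
  have hττ := (hinv τ hτP hτQ).1
  have hτ1 : τ ≠ 1 := fun h => hτQ (h ▸ Q.one_mem)
  refine ⟨τ, hσ, hτP, ho, Cfsg.Agent.Lib.Helper11.orderOf_two_iff.2 ⟨hττ, hτ1⟩,
    (hinv τ hτP hτQ).2 σ hσQ, ?_, hcardP⟩
  have hpow : ∀ s ∈ Q, ∃ a : ℕ, s = σ ^ a := by
    intro s hs
    rw [← hQeq] at hs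
    obtain ⟨a, ha⟩ := (mem_powers_iff_mem_zpowers).2 hs
    exact ⟨a, ha.symm⟩
  intro x hx
  by_cases hxQ : x ∈ Q
  · obtain ⟨a, ha⟩ := hpow x hxQ
    exact ⟨a, Or.inl ha⟩
  · have h2 : (Q.subgroupOf P).index = 2 := hQi
    have h3 := Subgroup.mul_mem_iff_of_index_two h2 (a := (⟨x, hx⟩ : P)) (b := (⟨τ, hτP⟩ : P))
    simp only [Subgroup.mem_subgroupOf, Subgroup.coe_mul] at h3
    have h4 : x * τ ∈ Q := h3.2 ⟨fun h => absurd h hxQ, fun h => absurd h hτQ⟩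
    obtain ⟨a, ha⟩ := hpow _ h4
    refine ⟨a, Or.inr ?_⟩
    rw [← ha, mul_assoc, hττ, mul_one]

/-- an involution is conjugate into a given Sylow 2-subgroup. -/
theorem exists_conj_mem_sylow [Finite G] (P : Sylow 2 G) {R : Subgroup G} (hR : IsPGroup 2 R) :
    ∃ k : G, ∀ x ∈ R, k * x * k⁻¹ ∈ (P : Subgroup G) := by
  obtain ⟨k, -, hk⟩ := Cfsg.Agent.Lib.Helper11.exists_conj_le_sylow_of_le ⊤ P le_top R hR le_top
  exact ⟨k, fun x hx => hk (Cfsg.Agent.Lib.Helper11.conj_mem_conj_smul hx)⟩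

theorem isPGroup_zpowers_of_orderOf {x : G} {k : ℕ} (hx : orderOf x = 2 ^ k) :
    IsPGroup 2 (Subgroup.zpowers x) :=
  IsPGroup.of_card (n := k) (by rw [Nat.card_zpowers, hx])

theorem Dih.centralizer_bound [Finite G] {P : Sylow 2 G} {σ τ : G} {N : ℕ}
    (D : Dih (P : Subgroup G) σ τ N) {h : ℕ} (hN : N = 2 * h) (hh : 0 < h) {x : G}
    (hx : orderOf x = 2) (hxJ : ¬ IsConj (σ ^ h) x) :
    (Nat.card (Subgroup.centralizer ({x} : Set G))).factorization 2 ≤ 2 := by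
  classical
  obtain ⟨C, hC⟩ : ∃ C, C = Subgroup.centralizer ({x} : Set G) := ⟨_, rfl⟩
  rw [← hC]
  have hCmem : ∀ w : G, w ∈ C ↔ w * x = x * w := by
    intro w; rw [hC, Subgroup.mem_centralizer_singleton_iff]
  have hxC : x ∈ C := (hCmem x).2 rfl
  obtain ⟨T⟩ : Nonempty (Sylow 2 C) := inferInstance
  have hZn : (Subgroup.zpowers (⟨x, hxC⟩ : C)).Normal := by
    constructor
    rintro _ ⟨k, rfl⟩ g
    have h1 : g * (⟨x, hxC⟩ : C) * g⁻¹ = ⟨x, hxC⟩ := by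
      apply Subtype.ext
      have := (hCmem g).1 g.2
      simp only [Subgroup.coe_mul, Subgroup.coe_inv]
      rw [this, mul_inv_cancel_right]
    show g * (⟨x, hxC⟩ : C) ^ k * g⁻¹ ∈ _
    rw [← conj_zpow, h1]
    exact Subgroup.zpow_mem _ (Subgroup.mem_zpowers _) k
  have hZp : IsPGroup 2 (Subgroup.zpowers (⟨x, hxC⟩ : C)) :=
    isPGroup_zpowers_of_orderOf (k := 1) (by rw [Subgroup.orderOf_mk, hx, pow_one])
  have hZT : Subgroup.zpowers (⟨x, hxC⟩ : C) ≤ T := hZp.le_sylow_of_normal T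
  obtain ⟨T', hT'⟩ : ∃ T', T' = (T : Subgroup C).map C.subtype := ⟨_, rfl⟩
  have hT'p : IsPGroup 2 T' := hT' ▸ T.2.map _
  have hxT' : x ∈ T' := by
    rw [hT']; exact ⟨⟨x, hxC⟩, hZT (Subgroup.mem_zpowers _), rfl⟩
  have hT'C : ∀ t ∈ T', t * x = x * t := by
    intro t ht
    rw [hT'] at ht
    obtain ⟨c, -, rfl⟩ := ht
    exact (hCmem c).1 c.2
  obtain ⟨k, hk⟩ := exists_conj_mem_sylow P hT'p
  obtain ⟨x₁, hx₁⟩ : ∃ x₁, x₁ = k * x * k⁻¹ := ⟨_, rfl⟩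
  have hx₁P : x₁ ∈ (P : Subgroup G) := hx₁ ▸ hk x hxT'
  have hx₁o : orderOf x₁ = 2 := by rw [hx₁, orderOf_conj_eq, hx]
  have hx₁A : x₁ ∉ Subgroup.zpowers σ := by
    rcases D.invol_cases hN hh hx₁P hx₁o with h1 | h1
    · exfalso
      apply hxJ
      rw [← h1, hx₁]
      exact (isConj_iff.2 ⟨k, rfl⟩).symm
    · exact h1
  have hsub : (T' : Set G) ⊆ ((({1, σ ^ h, x₁, σ ^ h * x₁} : Finset G).image
      (fun w => k⁻¹ * w * k) : Finset G) : Set G) := by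
    intro t ht
    have h1 : k * t * k⁻¹ * x₁ = x₁ * (k * t * k⁻¹) := by
      rw [hx₁]
      have e1 : k * t * k⁻¹ * (k * x * k⁻¹) = k * (t * x) * k⁻¹ := by group
      have e2 : k * x * k⁻¹ * (k * t * k⁻¹) = k * (x * t) * k⁻¹ := by group
      rw [e1, e2, hT'C t ht]
    have h2 := D.comm_cases hN hh hx₁P hx₁A (hk t ht) h1
    rw [Finset.coe_image]
    refine ⟨k * t * k⁻¹, ?_, by group⟩
    simp only [Finset.coe_insert, Finset.coe_singleton, Set.mem_insert_iff,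
      Set.mem_singleton_iff]
    exact h2
  have hcard : Nat.card T' ≤ 4 := by
    have h1 : Nat.card T' = (T' : Set G).ncard := rfl
    rw [h1]
    calc (T' : Set G).ncard ≤ ((({1, σ ^ h, x₁, σ ^ h * x₁} : Finset G).image
        (fun w => k⁻¹ * w * k) : Finset G) : Set G).ncard :=
          Set.ncard_le_ncard hsub (Finset.finite_toSet _)
      _ = (({1, σ ^ h, x₁, σ ^ h * x₁} : Finset G).image (fun w => k⁻¹ * w * k)).card :=
          Set.ncard_coe_finset _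
      _ ≤ ({1, σ ^ h, x₁, σ ^ h * x₁} : Finset G).card := Finset.card_image_le
      _ ≤ 4 := Finset.card_le_four
  have hcT : Nat.card T' = Nat.card (T : Subgroup C) := by
    rw [hT']; exact Subgroup.card_map_of_injective C.subtype_injective
  rw [hcT, T.card_eq_multiplicity] at hcard
  by_contra hcon
  push Not at hcon
  have : 2 ^ 3 ≤ 2 ^ (Nat.card C).factorization 2 := Nat.pow_le_pow_right (by norm_num) hcon
  omega

end Cfsg.Agent.Lib.Helper25
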